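import Groth.Agent.Lib.EtLocal.HenselPart
import Groth.Agent.Lib.PropH0.Clopen
import Groth.Agent.Lib.EtBasicB.OverField
import Mathlib.AlgebraicGeometry.Morphisms.FlatRank

/-!
# Agreement loci and lifting of sections from the closed fibre
-/

set_option autoImplicit false
set_option backward.isDefEq.respectTransparency false
set_option linter.style.haveILetI false

universe u

open CategoryTheory CategoryTheory.Limits AlgebraicGeometry

namespace GrothLib.EtDescent21

/-- The locus where two points of an unramified scheme agree is open. -/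
theorem exists_agreeOpen {T E X : Scheme.{u}} (h : E ⟶ X) [LocallyOfFiniteType h] [FormallyUnramified h]
    (u v : T ⟶ E) (huv : u ≫ h = v ≫ h) :
    ∃ U : T.Opens, ∀ {T' : Scheme.{u}} (k : T' ⟶ T), Set.range k ⊆ (U : Set T) ↔ k ≫ u = k ≫ v := by
  haveI : IsOpenImmersion (pullback.diagonal h) := inferInstance
  let w : T ⟶ pullback h h := pullback.lift u v huv
  refine ⟨w ⁻¹ᵁ (pullback.diagonal h).opensRange, fun k => ⟨fun hk => ?_, fun hk => ?_⟩⟩
  · have hr : Set.range (k ≫ w) ⊆ Set.range (pullback.diagonal h) := by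
      rintro _ ⟨z, rfl⟩
      exact hk ⟨z, rfl⟩
    have e := IsOpenImmersion.lift_fac (pullback.diagonal h) (k ≫ w) hr
    have e₁ := congrArg (· ≫ pullback.fst h h) e
    have e₂ := congrArg (· ≫ pullback.snd h h) e
    simp only [Category.assoc, pullback.diagonal_fst, pullback.diagonal_snd, Category.comp_id, w,
      pullback.lift_fst, pullback.lift_snd] at e₁ e₂
    exact e₁.symm.trans e₂
  · rintro _ ⟨z, rfl⟩
    have e : k ≫ w = (k ≫ u) ≫ pullback.diagonal h := by
      apply pullback.hom_ext <;> simp [w, hk]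
    exact ⟨(k ≫ u) z, by rw [← Scheme.Hom.comp_apply, ← e, Scheme.Hom.comp_apply]⟩

variable {A : Type u} [CommRing A] [HenselianLocalRing A] {X : Scheme.{u}} (g : X ⟶ Spec (CommRingCat.of A))

/-- The closed point as a morphism. -/
noncomputable abbrev clPt (A : Type u) [CommRing A] [IsLocalRing A] :
    Spec (CommRingCat.of (IsLocalRing.ResidueField A)) ⟶ Spec (CommRingCat.of A) :=
  Spec.map (CommRingCat.ofHom (IsLocalRing.residue A))

theorem range_clPt : Set.range (clPt A) = {IsLocalRing.closedPoint A} := by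
  ext x
  constructor
  · rintro ⟨y, rfl⟩
    obtain rfl : y = IsLocalRing.closedPoint (IsLocalRing.ResidueField A) := Subsingleton.elim (α := PrimeSpectrum _) _ _
    exact EtLocal.comap_closedPoint_residue
  · rintro rfl
    exact ⟨IsLocalRing.closedPoint _, EtLocal.comap_closedPoint_residue⟩

theorem range_fst_clPt {Y : Scheme.{u}} (f : Y ⟶ Spec (CommRingCat.of A)) :
    Set.range (pullback.fst f (clPt A)) = f ⁻¹' {IsLocalRing.closedPoint A} := by
  rw [Scheme.Pullback.range_fst, range_clPt]

theorem Z0_eq {Y : Scheme.{u}} (f : Y ⟶ Spec (CommRingCat.of A)) :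
    PropH0.Z0 f (IsLocalRing.maximalIdeal A) = f ⁻¹' {IsLocalRing.closedPoint A} := by
  show f ⁻¹' _ = _
  congr 1
  ext p
  refine ⟨fun h => ?_, fun h => ?_⟩
  · exact PrimeSpectrum.ext ((IsLocalRing.maximalIdeal.isMaximal A).eq_of_le p.isPrime.ne_top h).symm
  · rw [Set.mem_singleton_iff] at h
    subst h
    exact le_refl (IsLocalRing.maximalIdeal A)

instance : IsClosedImmersion (clPt A) :=
  IsClosedImmersion.spec_of_surjective _ (IsLocalRing.residue_surjective)

/-- An open set containing the closed fibre is everything. -/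
theorem eq_univ_of_closedFibre [UniversallyClosed g] {U : X.Opens}
    (h : ∀ x, g x = IsLocalRing.closedPoint A → x ∈ U) : (U : Set X) = Set.univ :=
  Set.eq_univ_of_forall fun x =>
    let ⟨x', hxx', hx'⟩ := EtLocal.exists_specializes_closedPoint g x
    hxx'.mem_open U.2 (h x' hx')

/-- Sections of an unramified scheme agreeing over the closed fibre are equal. -/
theorem ext_of_closedFibre [UniversallyClosed g] {E Y : Scheme.{u}} (h : E ⟶ Y) [LocallyOfFiniteType h]
    [FormallyUnramified h] (u v : X ⟶ E) (huv : u ≫ h = v ≫ h)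
    (e : pullback.fst g (clPt A) ≫ u = pullback.fst g (clPt A) ≫ v) : u = v := by
  obtain ⟨U, hU⟩ := exists_agreeOpen h u v huv
  have h0 := (hU (pullback.fst g (clPt A))).2 e
  rw [range_fst_clPt] at h0
  have := (hU (𝟙 X)).1 (by rw [eq_univ_of_closedFibre g fun x hx => h0 hx]; exact Set.subset_univ _)
  simpa using this

/-- Sections of a finite étale scheme lift from the closed fibre. -/
theorem exists_lift_of_finite [IsProper g] {E : Scheme.{u}} (h : E ⟶ X) [IsFinite h] [Etale h]
    (σ₀ : pullback g (clPt A) ⟶ E) (hσ₀ : σ₀ ≫ h = pullback.fst g (clPt A)) :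
    ∃ σ : X ⟶ E, σ ≫ h = 𝟙 X ∧ pullback.fst g (clPt A) ≫ σ = σ₀ := by
  let ι₀ := pullback.fst g (clPt A)
  let s : pullback g (clPt A) ⟶ pullback h ι₀ := pullback.lift σ₀ (𝟙 _) (by rw [Category.id_comp, hσ₀])
  have hs : s ≫ pullback.snd h ι₀ = 𝟙 _ := pullback.lift_snd _ _ _
  haveI : Mono s := mono_of_mono_fac hs
  haveI : Etale (s ≫ pullback.snd h ι₀) := hs.symm ▸ inferInstance
  haveI : Etale s := Etale.of_comp s (pullback.snd h ι₀)
  haveI : IsOpenImmersion s := IsOpenImmersion.of_flat_of_mono s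
  haveI : IsClosedImmersion ι₀ := inferInstance
  let e := pullback.fst h ι₀
  haveI : IsClosedImmersion e := inferInstance
  have hZ : PropH0.Z0 (h ≫ g) (IsLocalRing.maximalIdeal A) = Set.range e := by
    rw [Z0_eq, Scheme.Pullback.range_fst, range_fst_clPt]
    rfl
  haveI : HenselianRing A (IsLocalRing.maximalIdeal A) := inferInstance
  haveI : IsClosedImmersion s := by
    haveI : IsClosedImmersion (s ≫ pullback.snd h ι₀) := hs.symm ▸ inferInstance
    exact IsClosedImmersion.of_comp s (pullback.snd h ι₀)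
  obtain ⟨V, ⟨hV, hVe⟩, -⟩ := PropH0.existsUnique_isClopen (h ≫ g) (IsLocalRing.maximalIdeal A)
    (C := e '' Set.range s) (C' := e '' (Set.range s)ᶜ)
    (e.isClosedMap _ s.isClosedEmbedding.isClosed_range)
    (e.isClosedMap _ s.isOpenEmbedding.isOpen_range.isClosed_compl)
    (by rw [← Set.image_union, Set.union_compl_self, Set.image_univ, hZ])
    (Set.disjoint_image_of_injective e.isClosedEmbedding.injective disjoint_compl_right)
  let W : E.Opens := ⟨V, hV.2⟩
  haveI : IsClosedImmersion W.ι := (IsClosedImmersion.iff_isPreimmersion).2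
    ⟨inferInstance, by rw [Scheme.Opens.range_ι]; exact hV.1⟩
  let f := W.ι ≫ h
  have hσW : Set.range σ₀ ⊆ (W : Set E) := by
    rintro _ ⟨z, rfl⟩
    have : σ₀ z ∈ e '' Set.range s := ⟨s z, ⟨z, rfl⟩, by
      rw [← Scheme.Hom.comp_apply, show s ≫ e = σ₀ from pullback.lift_fst _ _ _]⟩
    rw [← hVe] at this
    exact this.1
  have hrange : ∀ q : (pullback f ι₀ : Scheme.{u}), pullback.fst f ι₀ q ∈ Set.univ →
      (pullback.lift (pullback.fst f ι₀ ≫ W.ι) (pullback.snd f ι₀)
        (by rw [Category.assoc]; exact pullback.condition) : pullback f ι₀ ⟶ pullback h ι₀) q ∈ Set.range s := by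
    intro q _
    set z := (pullback.lift (pullback.fst f ι₀ ≫ W.ι) (pullback.snd f ι₀)
        (by rw [Category.assoc]; exact pullback.condition) : pullback f ι₀ ⟶ pullback h ι₀) q with hz
    have hze : e z ∈ e '' Set.range s := by
      rw [← hVe]
      refine ⟨?_, ?_⟩
      · rw [hz, ← Scheme.Hom.comp_apply, pullback.lift_fst, Scheme.Hom.comp_apply]
        exact (pullback.fst f ι₀ q).2
      · rw [hZ]; exact ⟨z, rfl⟩
    exact e.isClosedEmbedding.injective.mem_set_image.1 hze
  let m : pullback f ι₀ ⟶ pullback h ι₀ := pullback.lift (pullback.fst f ι₀ ≫ W.ι) (pullback.snd f ι₀)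
    (by rw [Category.assoc]; exact pullback.condition)
  have hmr : Set.range m ⊆ Set.range s := by
    rintro _ ⟨q, rfl⟩
    exact hrange q trivial
  haveI : Mono m := ⟨fun a b hab => by
    have e1 := congrArg (· ≫ pullback.fst h ι₀) hab
    have e2 := congrArg (· ≫ pullback.snd h ι₀) hab
    simp only [m, Category.assoc, pullback.lift_fst, pullback.lift_snd] at e1 e2
    exact pullback.hom_ext ((cancel_mono W.ι).1 (by simpa only [Category.assoc] using e1)) e2⟩
  have hl : IsOpenImmersion.lift s m hmr = pullback.snd f ι₀ := by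
    have := congrArg (· ≫ pullback.snd h ι₀) (IsOpenImmersion.lift_fac s m hmr)
    simp only [Category.assoc, hs, Category.comp_id] at this
    rw [this]
    exact pullback.lift_snd _ _ _
  let w : pullback g (clPt A) ⟶ pullback f ι₀ := pullback.lift (IsOpenImmersion.lift W.ι σ₀
      (by rw [Scheme.Opens.range_ι]; exact hσW)) (𝟙 _)
    (by rw [← Category.assoc, IsOpenImmersion.lift_fac, Category.id_comp, hσ₀])
  have hw : w ≫ pullback.snd f ι₀ = 𝟙 _ := pullback.lift_snd _ _ _
  haveI : Mono (IsOpenImmersion.lift s m hmr) := mono_of_mono_fac (IsOpenImmersion.lift_fac s m hmr)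
  haveI : Mono (pullback.snd f ι₀) := hl ▸ inferInstance
  haveI : IsIso (pullback.snd f ι₀) := by
    haveI : IsSplitEpi (pullback.snd f ι₀) := IsSplitEpi.mk' ⟨w, hw⟩
    exact isIso_of_mono_of_isSplitEpi _
  have h1 : ∀ x : X, g x = IsLocalRing.closedPoint A → f.finrank x = 1 := by
    intro x hx
    obtain ⟨z, rfl⟩ : x ∈ Set.range ι₀ := by rw [range_fst_clPt]; exact hx
    rw [← Scheme.Hom.finrank_pullback_snd, Scheme.Hom.finrank_eq_one_of_isIso]
    rfl
  let U : X.Opens := ⟨{x | f.finrank x = 1}, f.isLocallyConstant_finrank.isOpen_fiber 1⟩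
  haveI : IsIso f := (Scheme.Hom.isIso_iff_finrank_eq f).2 (funext fun x => by
    have : x ∈ (U : Set X) := by rw [eq_univ_of_closedFibre g h1]; trivial
    exact this)
  refine ⟨inv f ≫ W.ι, by rw [Category.assoc]; exact IsIso.inv_hom_id f, ?_⟩
  have hσ' : IsOpenImmersion.lift W.ι σ₀ (by rw [Scheme.Opens.range_ι]; exact hσW) = ι₀ ≫ inv f := by
    rw [IsIso.eq_comp_inv, ← Category.assoc, IsOpenImmersion.lift_fac, hσ₀]
  rw [← Category.assoc, show pullback.fst g (clPt A) ≫ inv f = _ from hσ'.symm, IsOpenImmersion.lift_fac]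

/-- Sections of an étale separated scheme over a finite scheme lift from the closed fibre. -/
theorem exists_lift_of_etale [IsFinite g] {E : Scheme.{u}} (h : E ⟶ X) [Etale h] [IsSeparated h]
    [QuasiCompact h] (σ₀ : pullback g (clPt A) ⟶ E) (hσ₀ : σ₀ ≫ h = pullback.fst g (clPt A)) :
    ∃ σ : X ⟶ E, σ ≫ h = 𝟙 X ∧ pullback.fst g (clPt A) ≫ σ = σ₀ := by
  haveI : LocallyQuasiFinite h := EtBasicB.locallyQuasiFinite_of_unramified h
  obtain ⟨W, ⟨hWc, hWf, hW⟩, -⟩ := EtLocal.existsUnique_isFinitePart (h ≫ g)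
  haveI : IsFinite ((W.ι ≫ h) ≫ g) := by rw [Category.assoc]; exact hWf
  haveI : IsFinite (W.ι ≫ h) := MorphismProperty.of_postcomp (W := @IsFinite) (W' := @IsSeparated) (W.ι ≫ h) g inferInstance inferInstance
  have hr : Set.range σ₀ ⊆ Set.range W.ι := by
    rw [Scheme.Opens.range_ι]
    rintro _ ⟨z, rfl⟩
    refine hW _ ?_
    have : pullback.fst g (clPt A) z ∈ g ⁻¹' {IsLocalRing.closedPoint A} := by
      rw [← range_fst_clPt]; exact ⟨z, rfl⟩
    rw [← hσ₀] at this
    exact this
  obtain ⟨σ, hσ, hσ'⟩ := exists_lift_of_finite g (W.ι ≫ h) (IsOpenImmersion.lift W.ι σ₀ hr)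
    (by rw [← Category.assoc, IsOpenImmersion.lift_fac, hσ₀])
  exact ⟨σ ≫ W.ι, by rw [Category.assoc, hσ], by rw [← Category.assoc, hσ', IsOpenImmersion.lift_fac]⟩

end GrothLib.EtDescent21
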