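import Groth.Agent.Lib.SchEffective.Refine
import Groth.Agent.Lib.DDPull.Basic
import Groth.Agent.Lib.SGA1Sub21.EtaleHom

/-!
# Étale descent data relative to universally submersive morphisms

A descent datum with étale descended scheme is the same as a representable functor of elements.
-/

set_option autoImplicit false
set_option backward.isDefEq.respectTransparency false
set_option backward.isDefEq.respectTransparency.types false

universe u

open CategoryTheory CategoryTheory.Limits AlgebraicGeometry Desc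

namespace GrothLib.EtDescent21

open GrothLib.SchEffective GrothLib.DDPull

variable {S X : Scheme.{u}} {g : X ⟶ S}

/-- The datum is the canonical one of an étale scheme. -/
def EffEt (D : SchDDFam (fam g)) : Prop :=
  ∃ U : Over S, Etale U.hom ∧ Nonempty ((toDDFam (fam g)).obj U ≅ D)

/-- `n` is universal among elements over schemes over `S₁`. -/
def Uni (D : SchDDFam (fam g)) {S₁ : Scheme.{u}} (q : S₁ ⟶ S) {N : Scheme.{u}} (ν : N ⟶ S₁)
    (n : Elt D (ν ≫ q)) : Prop :=
  ∀ ⦃T : Scheme.{u}⦄ (t : T ⟶ S₁) (a : Elt D (t ≫ q)), ∃! j : T ⟶ N, j ≫ ν = t ∧ IsRes n j a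

/-- The functor of elements over `S₁` is representable by an étale scheme. -/
def EtRep (D : SchDDFam (fam g)) {S₁ : Scheme.{u}} (q : S₁ ⟶ S) : Prop :=
  ∃ (N : Scheme.{u}) (ν : N ⟶ S₁) (n : Elt D (ν ≫ q)), Etale ν ∧ Uni D q ν n

theorem exists_universal_of_iso {D : SchDDFam (fam g)} (hg : SGA1.UnivSubmersive g) (U : Over S)
    [Etale U.hom] (e : (toDDFam (fam g)).obj U ≅ D) : ∃ m : Elt D U.hom, IsUniversal m := by
  let i₀ : PUnit.{u + 1} := PUnit.unit
  let einv : (D.obj i₀).left ⟶ U.left := (e.inv.hom i₀).left ≫ pullback.snd g U.hom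
  have hid : ∀ i, (e.inv.hom i).left ≫ (e.hom.hom i).left = 𝟙 (D.obj i).left := fun i => by
    rw [← Over.comp_left, ← SchDDFam.comp_hom, e.inv_hom_id]; rfl
  have hid' : ∀ i, (e.hom.hom i).left ≫ (e.inv.hom i).left = 𝟙 (pullback g U.hom) := fun i => by
    rw [← Over.comp_left, ← SchDDFam.comp_hom, e.hom_inv_id]; rfl
  let m : Elt D U.hom :=
    { a := fun i => (e.hom.hom i).left
      hom := fun i => Over.w (e.hom.hom i)
      compat := fun T' i j x y s hx hy => by
        let v : Lifts (((toDDFam (fam g)).obj U).obj i) x := ⟨pullback.lift x s hx, pullback.lift_fst _ _ _⟩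
        refine (e.hom.comm x y (hx.trans hy.symm) v _ rfl).trans ?_
        congr 1
        exact pullback.hom_ext ((pullback.lift_fst _ _ _).trans (pullback.lift_fst _ _ _).symm)
          ((pullback.lift_snd _ _ _).trans ((pullback.lift_snd _ _ _).trans (pullback.lift_snd _ _ _).symm)) }
  refine ⟨m, fun T t a => ?_⟩
  have hψ : ∀ {T' : Scheme.{u}} (x y : T' ⟶ X) (s : T' ⟶ T) (hx : x ≫ g = s ≫ t) (hy : y ≫ g = s ≫ t),
      (a.app (i := i₀) x s hx).1 ≫ einv = (a.app (i := i₀) y s hy).1 ≫ einv := by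
    intro T' x y s hx hy
    have h := hx.trans hy.symm
    have h1 := e.inv.comm (i := i₀) (j := i₀) x y h (a.app x s hx) (e.inv.push (a.app x s hx)) rfl
    rw [a.φ_app (i := i₀) (j := i₀) x y s hx hy h] at h1
    refine Eq.trans ?_ ((congrArg (· ≫ pullback.snd g U.hom) h1).trans (Category.assoc _ _ _))
    exact ((pullback.lift_snd _ _ _).trans (Category.assoc _ _ _)).symm
  let x₀ := pullback.snd t g
  let s₀ := pullback.fst t g
  have h₀ : x₀ ≫ g = s₀ ≫ t := pullback.condition.symm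
  have hU : einv ≫ U.hom = (D.obj i₀).hom ≫ g := by
    rw [Category.assoc, ← pullback.condition, ← Category.assoc]
    exact congrArg (· ≫ g) (Over.w (e.inv.hom i₀))
  have hnat : ∀ {T' : Scheme.{u}} (k : T' ⟶ pullback t g) (h : (k ≫ x₀) ≫ g = (k ≫ s₀) ≫ t),
      (a.app (i := i₀) (k ≫ x₀) (k ≫ s₀) h).1 ≫ einv = k ≫ (a.app (i := i₀) x₀ s₀ h₀).1 ≫ einv := by
    intro T' k h
    rw [a.app_natural k x₀ s₀ h₀ h, Category.assoc]
  obtain ⟨j, ⟨hj₁, hj₂⟩, hju⟩ := SGA1Sub21.existsUnique_descend_hom g hg t U.hom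
    ((a.app (i := i₀) x₀ s₀ h₀).1 ≫ einv)
    (by rw [Category.assoc, hU, ← Category.assoc, (a.app (i := i₀) x₀ s₀ h₀).2]; exact h₀)
    (by
      have hk : ∀ k : pullback s₀ s₀ ⟶ pullback t g, (k ≫ x₀) ≫ g = (k ≫ s₀) ≫ t := fun k => by
        rw [Category.assoc, h₀, Category.assoc]
      rw [← hnat _ (hk (pullback.fst s₀ s₀)), ← hnat _ (hk (pullback.snd s₀ s₀))]
      exact (hψ _ (pullback.snd s₀ s₀ ≫ x₀) _ (hk _)
        (by rw [pullback.condition]; exact hk _)).trans
        (congrArg (· ≫ einv) (a.app_congr rfl pullback.condition _ _)))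
  have hval : ∀ {T' : Scheme.{u}} (x : T' ⟶ X) (s : T' ⟶ T) (hx : x ≫ g = s ≫ t),
      (a.app (i := i₀) x s hx).1 ≫ einv = s ≫ j := by
    intro T' x s hx
    let k := pullback.lift s x hx.symm
    have hk : (k ≫ x₀) ≫ g = (k ≫ s₀) ≫ t := by rw [Category.assoc, h₀, Category.assoc]
    refine ((congrArg (· ≫ einv) (a.app_congr (pullback.lift_snd _ _ _).symm (pullback.lift_fst _ _ _).symm _ hk)).trans
      ((hnat k hk).trans ((congrArg (k ≫ ·) hj₂).trans (Category.assoc _ _ _).symm))).trans ?_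
    exact congrArg (· ≫ j) (pullback.lift_fst _ _ _)
  refine ⟨j, ⟨hj₁, fun T' i x s h h' => ?_⟩, fun j' hj' => hju j' ⟨hj'.1, ?_⟩⟩
  · change pullback.lift x (s ≫ j) h' ≫ (e.hom.hom i).left = _
    have : (a.app x s h).1 ≫ (e.inv.hom i).left = pullback.lift x (s ≫ j) h' := by
      refine pullback.hom_ext ?_ ?_
      · refine Eq.trans ?_ (pullback.lift_fst _ _ _).symm
        refine (Category.assoc _ _ _).trans ?_
        exact (congrArg ((a.app x s h).1 ≫ ·) (Over.w (e.inv.hom i))).trans (a.app x s h).2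
      · exact ((Category.assoc _ _ _).trans (hval x s h)).trans (pullback.lift_snd _ _ _).symm
    rw [← this, Category.assoc]
    exact (congrArg ((a.app x s h).1 ≫ ·) (hid i)).trans (Category.comp_id _)
  · have h' : x₀ ≫ g = (s₀ ≫ j') ≫ U.hom := by rw [Category.assoc, hj'.1]; exact h₀
    rw [← hj'.2 (i := i₀) x₀ s₀ h₀ h']
    change (pullback.lift x₀ (s₀ ≫ j') h' ≫ (e.hom.hom i₀).left) ≫ (e.inv.hom i₀).left ≫ pullback.snd g U.hom = _
    rw [Category.assoc, ← Category.assoc (e.hom.hom i₀).left]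
    exact (congrArg (fun z => pullback.lift x₀ (s₀ ≫ j') h' ≫ z ≫ pullback.snd g U.hom) (hid' i₀)).trans
      ((congrArg (pullback.lift x₀ (s₀ ≫ j') h' ≫ ·) (Category.id_comp _)).trans (pullback.lift_snd _ _ _))

/-- A universal element gives an isomorphism with the canonical datum. -/
theorem nonempty_iso_of_isUniversal {ι : Type u} {Y : ι → Scheme.{u}} {f : ∀ i, Y i ⟶ S} {D : SchDDFam f}
    {M : Scheme.{u}} {μ : M ⟶ S} {m : Elt D μ} (hm : IsUniversal m) :
    Nonempty ((toDDFam f).obj (Over.mk μ) ≅ D) := by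
  obtain ⟨e, heμ, h1, h2⟩ := exists_descended hm
  have hsq : ∀ i, (D.obj i).hom ≫ f i = e i ≫ μ := fun i => (heμ i).symm
  let a : (toDDFam f).obj (Over.mk μ) ⟶ D :=
    ⟨fun i => Over.homMk (m.a i) (m.hom i), fun T i j x₀ x₁ h v w hw => by
      change (D.φ x₀ x₁ h w).1 = _ ≫ m.a j
      have hx : x₀ ≫ f i = (v.1 ≫ pullback.snd (f i) μ) ≫ μ := by
        refine (congrArg (· ≫ f i) v.2).symm.trans ?_
        refine (Category.assoc _ _ _).trans ?_
        exact (congrArg (v.1 ≫ ·) pullback.condition).trans (Category.assoc _ _ _).symm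
      have hy : x₁ ≫ f j = (v.1 ≫ pullback.snd (f i) μ) ≫ μ := h.symm.trans hx
      refine Eq.trans ?_ (congrArg Subtype.val (m.φ_app x₀ x₁ _ hx hy h))
      refine SchEffective.φ_congr D rfl rfl _ _ (hw.trans ?_)
      change v.1 ≫ m.a i = pullback.lift x₀ _ hx ≫ m.a i
      congr 1
      exact pullback.hom_ext (v.2.trans (pullback.lift_fst _ _ _).symm) (pullback.lift_snd _ _ _).symm⟩
  let b : ∀ i, D.obj i ≅ ((toDDFam f).obj (Over.mk μ)).obj i := fun i => Over.isoMk
    { hom := pullback.lift (D.obj i).hom (e i) (hsq i)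
      inv := m.a i
      hom_inv_id := by
        refine Eq.trans ?_ (h1 (D.obj i).hom ⟨𝟙 _, Category.id_comp _⟩ (by rw [Category.id_comp, heμ]))
        exact congrArg (· ≫ m.a i) (pullback.hom_ext ((pullback.lift_fst _ _ _).trans (pullback.lift_fst _ _ _).symm)
          ((pullback.lift_snd _ _ _).trans ((Category.id_comp _).symm.trans (pullback.lift_snd _ _ _).symm)))
      inv_hom_id := by
        apply pullback.hom_ext
        · rw [Category.assoc, pullback.lift_fst, Category.id_comp, m.hom]; rfl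
        · rw [Category.assoc, pullback.lift_snd, Category.id_comp]
          refine Eq.trans ?_ (h2 (pullback.fst (f i) μ) (pullback.snd (f i) μ) pullback.condition)
          refine congrArg (· ≫ e i) ?_
          refine ((congrArg (· ≫ m.a i) ?_).trans (Category.id_comp _)).symm
          exact pullback.hom_ext ((pullback.lift_fst _ _ _).trans (Category.id_comp _).symm)
            ((pullback.lift_snd _ _ _).trans (Category.id_comp _).symm) } (pullback.lift_fst _ _ _)
  exact ⟨DDPull.isoMk (fun i => (b i).symm) a.comm⟩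

theorem effEt_iff {D : SchDDFam (fam g)} (hg : SGA1.UnivSubmersive g) :
    EffEt D ↔ ∃ (M : Scheme.{u}) (μ : M ⟶ S) (m : Elt D μ), Etale μ ∧ IsUniversal m := by
  constructor
  · rintro ⟨U, hU, ⟨e⟩⟩
    obtain ⟨m, hm⟩ := exists_universal_of_iso hg U e
    exact ⟨_, _, m, hU, hm⟩
  · rintro ⟨M, μ, m, hμ, hm⟩
    exact ⟨Over.mk μ, hμ, nonempty_iso_of_isUniversal hm⟩

theorem effEt_of_iso {D D' : SchDDFam (fam g)} (e : D ≅ D') (h : EffEt D) : EffEt D' :=
  h.imp fun _ hU => ⟨hU.1, hU.2.map (· ≪≫ e)⟩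

end GrothLib.EtDescent21
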