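import Groth.Agent.Lib.EtDescent21.Basic

/-!
# Étale representability of elements and base change of descent data along cartesian squares
-/

set_option autoImplicit false
set_option backward.isDefEq.respectTransparency false
set_option backward.isDefEq.respectTransparency.types false

universe u

open CategoryTheory CategoryTheory.Limits AlgebraicGeometry Desc

namespace GrothLib.EtDescent21

open GrothLib.SchEffective GrothLib.DDPull

variable {S X : Scheme.{u}} {g : X ⟶ S} {D : SchDDFam (fam g)}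

section cart

variable {S₁ X₁ : Scheme.{u}} {q : S₁ ⟶ S} {g₁ : X₁ ⟶ S₁} {p' : X₁ ⟶ X} (sq : IsPullback p' g₁ g q)

include sq in
lemma cart_w : ∀ _ : PUnit.{u + 1}, p' ≫ g = g₁ ≫ q := fun _ => sq.w

/-- The datum pulled back along a cartesian square. -/
noncomputable abbrev pullCart (D : SchDDFam (fam g)) : SchDDFam (fam g₁) :=
  pullDDFamObj (α := fun j => j) (p' := fun _ => p') (cart_w sq) D

theorem pull_bijective {T : Scheme.{u}} (t : T ⟶ S₁) :
    Function.Bijective (Elt.pull (D := D) (t := t) (α := fun j => j) (p' := fun _ => p') (cart_w sq)) := by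
  refine ⟨fun a a' he => Elt.ext' fun T' i x s h => ?_, fun b => ?_⟩
  · have hc : x ≫ g = (s ≫ t) ≫ q := h.trans (Category.assoc _ _ _).symm
    let y := sq.lift x (s ≫ t) hc
    have hy : y ≫ g₁ = s ≫ t := sq.lift_snd _ _ _
    have hyx : y ≫ p' = x := sq.lift_fst _ _ _
    have e1 := a.pull_app_fst (α := fun j => j) (p' := fun _ => p') (cart_w sq) (j := i) y s hy
    have e2 := a'.pull_app_fst (α := fun j => j) (p' := fun _ => p') (cart_w sq) (j := i) y s hy
    rw [he] at e1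
    refine ((a.app_congr hyx.symm rfl _ _).trans (e1.symm.trans e2)).trans (a'.app_congr hyx rfl _ _)
  · let lft : ∀ ⦃T' : Scheme.{u}⦄ (x : T' ⟶ X) (s : T' ⟶ T), x ≫ g = s ≫ t ≫ q → (T' ⟶ X₁) :=
      fun T' x s h => sq.lift x (s ≫ t) (h.trans (Category.assoc _ _ _).symm)
    have lft₁ : ∀ ⦃T' : Scheme.{u}⦄ (x : T' ⟶ X) (s : T' ⟶ T) (h : x ≫ g = s ≫ t ≫ q),
      lft x s h ≫ g₁ = s ≫ t := fun T' x s h => sq.lift_snd _ _ _
    have lft₂ : ∀ ⦃T' : Scheme.{u}⦄ (x : T' ⟶ X) (s : T' ⟶ T) (h : x ≫ g = s ≫ t ≫ q),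
      lft x s h ≫ p' = x := fun T' x s h => sq.lift_fst _ _ _
    let val : ∀ ⦃T' : Scheme.{u}⦄ (i : PUnit.{u + 1}) (x : T' ⟶ X) (s : T' ⟶ T), x ≫ g = s ≫ t ≫ q →
        Lifts (D.obj i) x := fun T' i x s h =>
      ⟨(b.app (i := i) (lft x s h) s (lft₁ x s h)).1 ≫ pullback.fst (D.obj i).hom p', by
        have e : (b.app (i := i) (lft x s h) s (lft₁ x s h)).1 ≫ pullback.snd (D.obj i).hom p' = lft x s h :=
          (b.app (i := i) (lft x s h) s (lft₁ x s h)).2
        rw [Category.assoc, pullback.condition, ← Category.assoc, e, lft₂ x s h]⟩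
    obtain ⟨a, ha⟩ : ∃ a : Elt D (t ≫ q), ∀ ⦃T' : Scheme.{u}⦄ (i : PUnit.{u + 1}) (x : T' ⟶ X) (s : T' ⟶ T)
        (h : x ≫ g = s ≫ t ≫ q), (a.app (i := i) x s h).1 = (val i x s h).1 := by
      suffices nat : _ ∧ _ from
        ⟨Elt.ofFun (fun T' i x s h => val i x s h) nat.1 nat.2,
          fun T' i x s h => Elt.ofFun_app (fun T' i x s h => val i x s h) nat.1 nat.2 x s h⟩
      refine ⟨?_, ?_⟩
      · intro T' T'' k i x s h x' s' hx hs h'
        subst hx hs
        have hl : lft (k ≫ x) (k ≫ s) h' = k ≫ lft x s h := sq.hom_ext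
          (by rw [lft₂ _ _ h', Category.assoc, lft₂ _ _ h])
          (by rw [lft₁ _ _ h', Category.assoc, Category.assoc, lft₁ _ _ h])
        change (b.app _ _ _).1 ≫ _ = k ≫ (b.app _ _ _).1 ≫ _
        rw [← Category.assoc k]
        exact congrArg (· ≫ pullback.fst (D.obj i).hom p') ((b.app_congr hl rfl _
          (by rw [Category.assoc, lft₁ _ _ h, Category.assoc])).trans (b.app_natural k _ _ _ _))
      · intro T' i j x y s hx hy
        have hxy := (lft₁ x s hx).trans (lft₁ y s hy).symm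
        have e := congrArg (fun v => (liftsPullbackEquiv (D.obj j) p' (lft y s hy) v).1)
          (b.φ_app (i := i) (j := j) (lft x s hx) (lft y s hy) s (lft₁ x s hx) (lft₁ y s hy) hxy)
        refine Eq.trans ?_ e
        simp only [pullDDFamObj, Equiv.trans_apply, Equiv.apply_symm_apply]
        exact SchEffective.φ_congr D (lft₂ x s hx).symm (lft₂ y s hy).symm _ _ rfl
    refine ⟨a, Elt.ext' fun T' i x s h => ?_⟩
    let P : Elt (pullCart sq D) t := a.pull (α := fun j => j) (p' := fun _ => p') (cart_w sq)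
    have h' : (x ≫ p') ≫ g = s ≫ t ≫ q := pull_cond (α := fun j => j) (p' := fun _ => p') (cart_w sq) (j := i) h
    change (P.app x s h).1 = (b.app x s h).1
    refine pullback.hom_ext ?_ ((P.app x s h).2.trans (b.app x s h).2.symm)
    refine (a.pull_app_fst (α := fun j => j) (p' := fun _ => p') (cart_w sq) x s h).trans ?_
    refine (ha i (x ≫ p') s h').trans ?_
    have el : lft (x ≫ p') s h' = x := sq.hom_ext (lft₂ _ _ h') ((lft₁ _ _ h').trans h.symm)
    exact congrArg (· ≫ pullback.fst (D.obj i).hom p') (b.app_congr el rfl (lft₁ _ _ h') h)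

theorem uni_iff {N : Scheme.{u}} (ν : N ⟶ S₁) (n : Elt D (ν ≫ q)) :
    Uni D q ν n ↔ IsUniversal (n.pull (α := fun j => j) (p' := fun _ => p') (cart_w sq)) := by
  have key : ∀ {T : Scheme.{u}} {t : T ⟶ S₁} {a : Elt D (t ≫ q)} {j : T ⟶ N},
      IsRes (n.pull (α := fun j => j) (p' := fun _ => p') (cart_w sq)) j
        (a.pull (α := fun j => j) (p' := fun _ => p') (cart_w sq)) → j ≫ ν = t ∧ IsRes n j a := by
    intro T t a j h
    have h0 : j ≫ ν ≫ q = t ≫ q := by rw [← Category.assoc, h.1]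
    have h1 := Elt.pull_isRes (α := fun j => j) (p' := fun _ => p') (cart_w sq) h.1 (n.isRes_res j h0)
    have := (pull_bijective sq t).1 (h.eq.trans h1.eq.symm)
    exact ⟨h.1, this ▸ n.isRes_res j h0⟩
  constructor
  · intro hn T t b
    obtain ⟨a, rfl⟩ := (pull_bijective sq t).2 b
    obtain ⟨j, hj, hu⟩ := hn t a
    exact ⟨j, Elt.pull_isRes _ hj.1 hj.2, fun j' hj' => hu j' (key hj')⟩
  · intro hn T t a
    obtain ⟨j, hj, hu⟩ := hn t (a.pull (α := fun j => j) (p' := fun _ => p') (cart_w sq))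
    exact ⟨j, key hj, fun j' hj' => hu j' (Elt.pull_isRes _ hj'.1 hj'.2)⟩

theorem effEt_pull_iff (hg : SGA1.UnivSubmersive g) : EffEt (pullCart sq D) ↔ EtRep D q := by
  have hg₁ : SGA1.UnivSubmersive g₁ := MorphismProperty.of_isPullback sq hg
  rw [effEt_iff hg₁]
  constructor
  · rintro ⟨N, ν, m, hν, hm⟩
    obtain ⟨n, rfl⟩ := (pull_bijective sq ν).2 m
    exact ⟨N, ν, n, hν, (uni_iff sq ν n).2 hm⟩
  · rintro ⟨N, ν, n, hν, hn⟩
    exact ⟨N, ν, _, hν, (uni_iff sq ν n).1 hn⟩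

end cart

/-- A universal element gives a universal element over a scheme over the base. -/
theorem exists_uni_baseChange {S₁ S₂ N : Scheme.{u}} {q : S₁ ⟶ S} {ν : N ⟶ S₁} {n : Elt D (ν ≫ q)}
    (hn : Uni D q ν n) (r : S₂ ⟶ S₁) :
    ∃ n' : Elt D (pullback.snd ν r ≫ r ≫ q), Uni D (r ≫ q) (pullback.snd ν r) n' := by
  have h0 : pullback.fst ν r ≫ ν ≫ q = pullback.snd ν r ≫ r ≫ q := by
    rw [pullback.condition_assoc]
  let n' := n.res (pullback.fst ν r) h0
  have hn' := n.isRes_res (pullback.fst ν r) h0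
  refine ⟨n', fun T t a => ?_⟩
  let c : Elt D ((t ≫ r) ≫ q) := Elt.castEq (Category.assoc t r q).symm a
  have hc : ∀ ⦃T' : Scheme.{u}⦄ ⦃i : PUnit.{u + 1}⦄ (x : T' ⟶ X) (s : T' ⟶ T)
      (h : x ≫ g = s ≫ (t ≫ r) ≫ q) (h' : x ≫ g = s ≫ t ≫ r ≫ q),
      (c.app (i := i) x s h).1 = (a.app (i := i) x s h').1 :=
    fun T' i x s h h' => Elt.castEq_app _ a x s h h'
  obtain ⟨j, ⟨hj₁, hj₂⟩, hu⟩ := hn (t ≫ r) c
  refine ⟨pullback.lift j t hj₁, ⟨pullback.lift_snd _ _ _, ?_⟩, fun j' hj' => ?_⟩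
  · refine ⟨by rw [← Category.assoc, pullback.lift_snd], fun T' i x s h h' => ?_⟩
    have h1 : x ≫ g = s ≫ (t ≫ r) ≫ q := by rw [Category.assoc]; exact h
    have h2 : x ≫ g = ((s ≫ pullback.lift j t hj₁) ≫ pullback.fst ν r) ≫ ν ≫ q := by
      rw [Category.assoc, h0]; exact h'
    rw [← hc x s h1 h, Elt.res_app n _ _ x _ h' h2]
    refine Eq.trans ?_ (hj₂.2 x s h1 ?_)
    · exact n.app_congr rfl (by rw [Category.assoc, pullback.lift_fst]) _ _
    · rw [h1, Category.assoc s j, ← Category.assoc j, hj₁]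
  · refine pullback.hom_ext ?_ (hj'.1.trans (pullback.lift_snd _ _ _).symm)
    rw [pullback.lift_fst]
    refine hu _ ⟨by rw [Category.assoc, pullback.condition, ← Category.assoc, hj'.1], ?_, ?_⟩
    · rw [Category.assoc, h0, ← Category.assoc, hj'.1, Category.assoc]
    · intro T' i x s h h'
      have h1 : x ≫ g = s ≫ t ≫ r ≫ q := by rw [← Category.assoc t]; exact h
      have h2 : x ≫ g = (s ≫ j') ≫ pullback.snd ν r ≫ r ≫ q := by
        rw [h1, Category.assoc, ← Category.assoc j', hj'.1]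
      rw [hc x s h h1, ← hj'.2.2 x s h1 h2, Elt.res_app n _ _ x _ h2 (by
        rw [Category.assoc, h0]; exact h2)]
      exact n.app_congr rfl (Category.assoc _ _ _).symm _ _

theorem etRep_comp {S₁ S₂ : Scheme.{u}} {q : S₁ ⟶ S} (r : S₂ ⟶ S₁) (h : EtRep D q) :
    EtRep D (r ≫ q) := by
  obtain ⟨N, ν, n, hν, hn⟩ := h
  obtain ⟨n', hn'⟩ := exists_uni_baseChange hn r
  exact ⟨_, _, n', inferInstance, hn'⟩

theorem effEt_iff_etRep_id (hg : SGA1.UnivSubmersive g) : EffEt D ↔ EtRep D (𝟙 S) := by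
  have sq : IsPullback (𝟙 X) g g (𝟙 S) := IsPullback.of_horiz_isIso ⟨by simp⟩
  rw [← effEt_pull_iff sq hg]
  let e : pullCart sq D ≅ D := DDPull.selfObj (𝟙 X) (Category.id_comp g) D
  exact ⟨effEt_of_iso e.symm, effEt_of_iso e⟩

theorem eq_of_uni {S₁ N : Scheme.{u}} {q : S₁ ⟶ S} {ν : N ⟶ S₁} {n : Elt D (ν ≫ q)}
    (hn : Uni D q ν n) {T : Scheme.{u}} {t : T ⟶ S₁} {a : Elt D (t ≫ q)} {j j' : T ⟶ N}
    (h : j ≫ ν = t ∧ IsRes n j a) (h' : j' ≫ ν = t ∧ IsRes n j' a) : j = j' :=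
  (hn t a).unique h h'

/-- Universal elements over the same scheme are isomorphic. -/
theorem exists_iso_of_uni {S₁ N N' : Scheme.{u}} {q : S₁ ⟶ S} {ν : N ⟶ S₁} {ν' : N' ⟶ S₁}
    {n : Elt D (ν ≫ q)} {n' : Elt D (ν' ≫ q)} (hn : Uni D q ν n) (hn' : Uni D q ν' n') :
    ∃ e : N ≅ N', e.hom ≫ ν' = ν := by
  obtain ⟨j, ⟨hj, hjr⟩, -⟩ := hn' ν n
  obtain ⟨k, ⟨hk, hkr⟩, -⟩ := hn ν' n'
  exact ⟨⟨j, k,
    eq_of_uni hn ⟨by rw [Category.assoc, hk, hj], hkr.comp hjr⟩ ⟨Category.id_comp _, isRes_id n⟩,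
    eq_of_uni hn' ⟨by rw [Category.assoc, hj, hk], hjr.comp hkr⟩ ⟨Category.id_comp _, isRes_id n'⟩⟩, hj⟩

end GrothLib.EtDescent21
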