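import Groth.Agent.Lib.Gonflement.Main
import Groth.Agent.Lib.AdicExtra.Completion
import Mathlib.AlgebraicGeometry.Morphisms.Flat
import Mathlib.RingTheory.AdicCompletion.LocalRing
import Mathlib.FieldTheory.IsAlgClosed.AlgebraicClosure
import Mathlib.RingTheory.AdicCompletion.AsTensorProduct

/-!
# Complete local rings faithfully flat over a given one
-/

set_option autoImplicit false
set_option linter.style.haveILetI false

universe u

open CategoryTheory AlgebraicGeometry IsLocalRing

namespace GrothLib.EtDescent21

theorem spec_map_flat_surjective {A B : Type u} [CommRing A] [CommRing B] [IsLocalRing A] [IsLocalRing B]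
    (φ : A →+* B) [IsLocalHom φ] (hφ : φ.Flat) :
    Flat (Spec.map (CommRingCat.ofHom φ)) ∧ Surjective (Spec.map (CommRingCat.ofHom φ)) ∧
      QuasiCompact (Spec.map (CommRingCat.ofHom φ)) := by
  letI := φ.toAlgebra
  haveI : Module.Flat A B := hφ
  haveI : IsLocalHom (algebraMap A B) := ‹IsLocalHom φ›
  haveI : Module.FaithfullyFlat A B := Module.FaithfullyFlat.of_flat_of_isLocalHom
  refine ⟨(HasRingHomProperty.Spec_iff (P := @Flat)).2 hφ, ⟨?_⟩, inferInstance⟩
  exact PrimeSpectrum.comap_surjective_of_faithfullyFlat (A := A) (B := B)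

theorem completion_map (A : Type u) [CommRing A] [IsLocalRing A] [IsNoetherianRing A] :
    Flat (Spec.map (CommRingCat.ofHom (algebraMap A (AdicCompletion (maximalIdeal A) A)))) ∧
      Surjective (Spec.map (CommRingCat.ofHom (algebraMap A (AdicCompletion (maximalIdeal A) A)))) ∧
      QuasiCompact (Spec.map (CommRingCat.ofHom (algebraMap A (AdicCompletion (maximalIdeal A) A)))) :=
  spec_map_flat_surjective _ (RingHom.flat_algebraMap_iff.2 inferInstance)

theorem exists_complete_algClosed (A : Type u) [CommRing A] [IsLocalRing A] [IsNoetherianRing A] :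
    ∃ (B : Type u) (_ : CommRing B) (_ : IsNoetherianRing B) (_ : IsLocalRing B)
      (_ : IsAdicComplete (maximalIdeal B) B) (_ : IsAlgClosed (ResidueField B)) (φ : A →+* B),
      φ.Flat ∧ IsLocalHom φ := by
  obtain ⟨B, _, φ, ψ, hN, hL, hF, hS, hK, hcomp⟩ :=
    Gonflement.exists_flat_local (R := A) (AlgebraicClosure (ResidueField A))
  haveI := hN
  haveI := hL
  have hker : RingHom.ker ψ = maximalIdeal B :=
    IsLocalRing.eq_maximalIdeal (RingHom.ker_isMaximal_of_surjective ψ hS)
  haveI : IsLocalHom φ := ⟨fun r hr => by
    by_contra h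
    have h0 : residue A r = 0 := (residue_eq_zero_iff r).2 h
    have := (hr.map ψ).ne_zero
    rw [← RingHom.comp_apply, hcomp, RingHom.comp_apply, h0, map_zero] at this
    exact this rfl⟩
  let C := AdicCompletion (maximalIdeal B) B
  let e : ResidueField B ≃+* AlgebraicClosure (ResidueField A) :=
    (Ideal.quotEquivOfEq hker.symm).trans (RingHom.quotientKerEquivOfSurjective hS)
  haveI : IsAlgClosed (ResidueField B) := IsAlgClosed.of_ringEquiv (AlgebraicClosure (ResidueField A)) _ e.symm
  haveI : IsAlgClosed (ResidueField C) := IsAlgClosed.of_ringEquiv (ResidueField B) _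
    (RingEquiv.ofBijective _ (AdicCompletion.residueField_map_bijective B))
  refine ⟨C, inferInstance, inferInstance, inferInstance, inferInstance, inferInstance,
    (algebraMap B C).comp φ, RingHom.Flat.comp hF (RingHom.flat_algebraMap_iff.2 inferInstance), inferInstance⟩

end GrothLib.EtDescent21
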