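import Groth.Agent.Lib.EtDescent21.Cart

/-!
# Universal elements and cartesian squares
-/

set_option autoImplicit false
set_option backward.isDefEq.respectTransparency false
set_option backward.isDefEq.respectTransparency.types false

universe u

open CategoryTheory CategoryTheory.Limits AlgebraicGeometry Desc

namespace GrothLib.EtDescent21

open GrothLib.SchEffective GrothLib.DDPull

variable {S X : Scheme.{u}} {g : X ⟶ S} {D : SchDDFam (fam g)} {S₁ N : Scheme.{u}} {q : S₁ ⟶ S}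
  {ν : N ⟶ S₁} {n : Elt D (ν ≫ q)}

theorem elt_w (n : Elt D (ν ≫ q)) (i : PUnit.{u + 1}) :
    n.a i ≫ (D.obj i).hom ≫ g = (pullback.snd g (ν ≫ q) ≫ ν) ≫ q := by
  rw [← Category.assoc, n.hom]
  exact pullback.condition.trans (Category.assoc _ _ _).symm

theorem exists_elt_of_point {ι : Type u} {Y : ι → Scheme.{u}} {f : ∀ i, Y i ⟶ S} {D : SchDDFam f}
    {T : Scheme.{u}} {t : T ⟶ S} {i : ι} (x : T ⟶ Y i) (v : Lifts (D.obj i) x) (e : x ≫ f i = t) :
    ∃ a : Elt D t, ∀ ⦃T' : Scheme.{u}⦄ (j : ι) (y : T' ⟶ Y j) (s : T' ⟶ T) (h : y ≫ f j = s ≫ t)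
      (h' : (s ≫ x) ≫ f i = y ≫ f j),
      (a.app y s h).1 = (D.φ (s ≫ x) y h' ⟨s ≫ v.1, by rw [Category.assoc, v.2]⟩).1 := by
  subst e
  exact ⟨Elt.ofPoint x v, fun T' j y s h h' => Elt.ofPoint_app x v y s h⟩

theorem isPullback_of_uni (hn : Uni D q ν n) (i : PUnit.{u + 1}) :
    IsPullback (n.a i) (pullback.snd g (ν ≫ q) ≫ ν) ((D.obj i).hom ≫ g) q := by
  have hex : ∀ {T : Scheme.{u}} (v : T ⟶ (D.obj i).left) (t : T ⟶ S₁) (_ : v ≫ (D.obj i).hom ≫ g = t ≫ q),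
      ∃! k : T ⟶ pullback g (ν ≫ q), k ≫ n.a i = v ∧ k ≫ pullback.snd g (ν ≫ q) ≫ ν = t := by
    intro T v t hvt
    have hx : (v ≫ (D.obj i).hom) ≫ g = t ≫ q := by rw [Category.assoc]; exact hvt
    let v₀ : Lifts (D.obj i) (v ≫ (D.obj i).hom) := ⟨v, rfl⟩
    obtain ⟨a, ha⟩ := exists_elt_of_point (D := D) (i := i) (v ≫ (D.obj i).hom) v₀ hx
    obtain ⟨j, ⟨hj₁, hj₂⟩, hju⟩ := hn t a
    have hc : (v ≫ (D.obj i).hom) ≫ g = j ≫ ν ≫ q := by rw [hx, ← Category.assoc, hj₁]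
    refine ⟨pullback.lift _ j hc, ⟨?_, ?_⟩, fun k ⟨hk₁, hk₂⟩ => ?_⟩
    · have h0 : (v ≫ (D.obj i).hom) ≫ g = 𝟙 T ≫ t ≫ q := by rw [Category.id_comp]; exact hx
      have h1 : (v ≫ (D.obj i).hom) ≫ g = (𝟙 T ≫ j) ≫ ν ≫ q := by rw [Category.id_comp]; exact hc
      refine Eq.trans ?_ ((hj₂.2 (i := i) _ (𝟙 T) h0 h1).trans ?_)
      · exact congrArg (· ≫ n.a i) (pullback.hom_ext ((pullback.lift_fst _ _ _).trans (pullback.lift_fst _ _ _).symm)
          ((pullback.lift_snd _ _ _).trans ((Category.id_comp _).symm.trans (pullback.lift_snd _ _ _).symm)))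
      · rw [ha i _ (𝟙 T) h0 (by rw [Category.id_comp])]
        exact (SchEffective.φ_congr D (Category.id_comp _) rfl _ rfl (q := v₀) (Category.id_comp _)).trans
          (congrArg Subtype.val (D.φ_self _ v₀))
    · rw [pullback.lift_snd_assoc, hj₁]
    · have hkx : k ≫ pullback.fst g (ν ≫ q) = v ≫ (D.obj i).hom := by
        rw [← hk₁, Category.assoc, n.hom]
      refine pullback.hom_ext (hkx.trans (pullback.lift_fst _ _ _).symm) ?_
      rw [pullback.lift_snd]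
      have hν : (k ≫ pullback.snd g (ν ≫ q)) ≫ ν = t := (Category.assoc _ _ _).trans hk₂
      refine hju _ ⟨hν, by rw [← Category.assoc, hν], fun T' i' y s h h' => ?_⟩
      have h₀ : (s ≫ v ≫ (D.obj i).hom) ≫ g = y ≫ g := by rw [Category.assoc, hx]; exact h.symm
      have hsx : (s ≫ v ≫ (D.obj i).hom) ≫ g = (s ≫ k ≫ pullback.snd g (ν ≫ q)) ≫ ν ≫ q := h₀.trans h'
      rw [ha i' y s h h₀, ← n.φ_app (i := i) (j := i') (s ≫ v ≫ (D.obj i).hom) y
        (s ≫ k ≫ pullback.snd g (ν ≫ q)) hsx h' (hsx.trans h'.symm)]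
      refine SchEffective.φ_congr D rfl rfl _ _ ?_
      change pullback.lift _ _ hsx ≫ n.a i = s ≫ v
      refine Eq.trans ?_ ((Category.assoc s k (n.a i)).trans (congrArg (s ≫ ·) hk₁))
      congr 1
      refine pullback.hom_ext ?_ ?_
      · rw [pullback.lift_fst, Category.assoc s k, hkx]
      · rw [pullback.lift_snd, Category.assoc]
  have w : n.a i ≫ (D.obj i).hom ≫ g = (pullback.snd g (ν ≫ q) ≫ ν) ≫ q := elt_w n i
  refine IsPullback.of_isLimit (PullbackCone.IsLimit.mk w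
    (fun c => (hex c.fst c.snd c.condition).choose)
    (fun c => (hex c.fst c.snd c.condition).choose_spec.1.1)
    (fun c => (hex c.fst c.snd c.condition).choose_spec.1.2)
    fun c k hk₁ hk₂ => (hex c.fst c.snd c.condition).choose_spec.2 k ⟨hk₁, hk₂⟩)

theorem uni_of_isPullback (hg : SGA1.UnivSubmersive g) [Etale ν]
    (h : IsPullback (n.a PUnit.unit) (pullback.snd g (ν ≫ q) ≫ ν) ((D.obj PUnit.unit).hom ≫ g) q) :
    Uni D q ν n := by
  intro T t a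
  let i₀ : PUnit.{u + 1} := PUnit.unit
  have hc : ∀ {T' : Scheme.{u}} (x : T' ⟶ X) (s : T' ⟶ T) (hx : x ≫ g = s ≫ t ≫ q),
      (a.app (i := i₀) x s hx).1 ≫ (D.obj i₀).hom ≫ g = (s ≫ t) ≫ q := fun x s hx => by
    rw [← Category.assoc, (a.app (i := i₀) x s hx).2, Category.assoc]; exact hx
  let ψ : ∀ {T' : Scheme.{u}} (x : T' ⟶ X) (s : T' ⟶ T), x ≫ g = s ≫ t ≫ q → (T' ⟶ pullback g (ν ≫ q)) :=
    fun x s hx => h.lift (a.app (i := i₀) x s hx).1 (s ≫ t) (hc x s hx)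
  have hψ₁ : ∀ {T' : Scheme.{u}} (x : T' ⟶ X) (s : T' ⟶ T) (hx : x ≫ g = s ≫ t ≫ q),
      ψ x s hx ≫ n.a i₀ = (a.app (i := i₀) x s hx).1 := fun x s hx => h.lift_fst _ _ _
  have hψ₂ : ∀ {T' : Scheme.{u}} (x : T' ⟶ X) (s : T' ⟶ T) (hx : x ≫ g = s ≫ t ≫ q),
      ψ x s hx ≫ pullback.snd g (ν ≫ q) ≫ ν = s ≫ t := fun x s hx => h.lift_snd _ _ _
  have hψ₃ : ∀ {T' : Scheme.{u}} (x : T' ⟶ X) (s : T' ⟶ T) (hx : x ≫ g = s ≫ t ≫ q),
      ψ x s hx ≫ pullback.fst g (ν ≫ q) = x := fun x s hx => by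
    have e := congrArg (· ≫ (D.obj i₀).hom) (hψ₁ x s hx)
    rw [Category.assoc, n.hom] at e
    exact e.trans (a.app (i := i₀) x s hx).2
  have indep : ∀ {T' : Scheme.{u}} (x y : T' ⟶ X) (s : T' ⟶ T) (hx : x ≫ g = s ≫ t ≫ q) (hy : y ≫ g = s ≫ t ≫ q),
      ψ x s hx ≫ pullback.snd g (ν ≫ q) = ψ y s hy ≫ pullback.snd g (ν ≫ q) := by
    intro T' x y s hx hy
    have hxy := hx.trans hy.symm
    have h1 : x ≫ g = (ψ x s hx ≫ pullback.snd g (ν ≫ q)) ≫ ν ≫ q := by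
      conv_lhs => rw [← hψ₃ x s hx]
      simp only [Category.assoc, pullback.condition]
    have h2 : y ≫ g = (ψ x s hx ≫ pullback.snd g (ν ≫ q)) ≫ ν ≫ q := hxy.symm.trans h1
    let k := pullback.lift y (ψ x s hx ≫ pullback.snd g (ν ≫ q)) h2
    suffices k = ψ y s hy by rw [← this, pullback.lift_snd]
    refine h.hom_ext ?_ ?_
    · rw [hψ₁]
      refine ((n.compat (i := i₀) (j := i₀) x y (ψ x s hx ≫ pullback.snd g (ν ≫ q)) h1 h2).symm).trans ?_
      refine Eq.trans ?_ (congrArg Subtype.val (a.φ_app (i := i₀) (j := i₀) x y s hx hy hxy))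
      refine SchEffective.φ_congr D rfl rfl _ _ ?_
      refine Eq.trans ?_ (hψ₁ x s hx)
      exact congrArg (· ≫ n.a i₀) (pullback.hom_ext ((pullback.lift_fst _ _ _).trans (hψ₃ x s hx).symm)
        (pullback.lift_snd _ _ _))
    · exact ((pullback.lift_snd_assoc _ _ _ _).trans ((Category.assoc _ _ _).trans (hψ₂ x s hx))).trans
        (hψ₂ y s hy).symm
  let x₀ := pullback.snd t (pullback.snd g q)
  let s₀ := pullback.fst t (pullback.snd g q)
  have h₀ : (x₀ ≫ pullback.fst g q) ≫ g = s₀ ≫ t ≫ q := by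
    simp only [x₀, s₀, Category.assoc, pullback.condition, pullback.condition_assoc]
  obtain ⟨j, ⟨hj₁, hj₂⟩, hju⟩ := SGA1Sub21.existsUnique_descend_hom (pullback.snd g q)
    (MorphismProperty.pullback_snd g q hg) t ν (ψ (x₀ ≫ pullback.fst g q) s₀ h₀ ≫ pullback.snd g (ν ≫ q))
    (by rw [Category.assoc]; exact hψ₂ _ _ _) (by
      have hk : ∀ k : pullback s₀ s₀ ⟶ pullback t (pullback.snd g q),
          (k ≫ x₀ ≫ pullback.fst g q) ≫ g = (k ≫ s₀) ≫ t ≫ q := fun k => by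
        rw [Category.assoc k, h₀]; simp only [Category.assoc]
      have hnat : ∀ k : pullback s₀ s₀ ⟶ pullback t (pullback.snd g q),
          k ≫ ψ (x₀ ≫ pullback.fst g q) s₀ h₀ = ψ (k ≫ x₀ ≫ pullback.fst g q) (k ≫ s₀) (hk k) := fun k =>
        h.hom_ext (by rw [Category.assoc, hψ₁, hψ₁, a.app_natural k _ _ h₀ (hk k)])
          (by rw [Category.assoc, hψ₂, hψ₂, Category.assoc])
      have e : pullback.fst s₀ s₀ ≫ s₀ = pullback.snd s₀ s₀ ≫ s₀ := pullback.condition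
      refine ((Category.assoc _ _ _).symm.trans (congrArg (· ≫ pullback.snd g (ν ≫ q)) (hnat (pullback.fst s₀ s₀)))).trans ?_
      refine Eq.trans ?_ ((Category.assoc _ _ _).symm.trans
        (congrArg (· ≫ pullback.snd g (ν ≫ q)) (hnat (pullback.snd s₀ s₀)))).symm
      refine (indep _ (pullback.snd s₀ s₀ ≫ x₀ ≫ pullback.fst g q) _ (hk _)
        (by rw [hk (pullback.snd s₀ s₀), e])).trans ?_
      congr 1
      exact h.hom_ext ((hψ₁ _ _ _).trans ((a.app_congr rfl e _ _).trans (hψ₁ _ _ _).symm))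
        ((hψ₂ _ _ _).trans ((congrArg (· ≫ t) e).trans (hψ₂ _ _ _).symm)))
  have hval : ∀ {T' : Scheme.{u}} (x : T' ⟶ X) (s : T' ⟶ T) (hx : x ≫ g = s ≫ t ≫ q),
      ψ x s hx ≫ pullback.snd g (ν ≫ q) = s ≫ j := by
    intro T' x s hx
    let k : T' ⟶ pullback t (pullback.snd g q) :=
      pullback.lift s (pullback.lift x (s ≫ t) (hx.trans (Category.assoc _ _ _).symm)) (pullback.lift_snd _ _ _).symm
    have hk₁ : k ≫ s₀ = s := pullback.lift_fst _ _ _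
    have hk₂ : k ≫ x₀ ≫ pullback.fst g q = x := by simp [k, x₀]
    have : k ≫ ψ (x₀ ≫ pullback.fst g q) s₀ h₀ = ψ x s hx := h.hom_ext
      (by rw [Category.assoc, hψ₁, hψ₁, ← a.app_natural k _ _ h₀ (by rw [hk₁, hk₂]; exact hx)]
          exact a.app_congr hk₂ hk₁ _ _)
      (by rw [Category.assoc, hψ₂, hψ₂, ← Category.assoc, hk₁])
    rw [← this, Category.assoc]
    refine (congrArg (k ≫ ·) hj₂).trans ?_
    rw [← Category.assoc, show k ≫ pullback.fst t (pullback.snd g q) = s from hk₁]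
  have hres : ∀ {T' : Scheme.{u}} (i : PUnit.{u + 1}) (x : T' ⟶ X) (s : T' ⟶ T) (h₁ : x ≫ g = s ≫ t ≫ q)
      (h₂ : x ≫ g = (s ≫ j) ≫ ν ≫ q), (n.app (i := i) x (s ≫ j) h₂).1 = (a.app (i := i) x s h₁).1 := by
    intro T' i x s h₁ h₂
    obtain rfl : i = i₀ := Subsingleton.elim _ _
    rw [← hψ₁ x s h₁]
    exact congrArg (· ≫ n.a i₀) (pullback.hom_ext ((pullback.lift_fst _ _ _).trans (hψ₃ x s h₁).symm)
      ((pullback.lift_snd _ _ _).trans (hval x s h₁).symm))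
  refine ⟨j, ⟨hj₁, by rw [← Category.assoc, hj₁], fun T' i x s h₁ h₂ => hres i x s h₁ h₂⟩,
    fun j' hj' => hju j' ⟨hj'.1, ?_⟩⟩
  have h₂ : (x₀ ≫ pullback.fst g q) ≫ g = (s₀ ≫ j') ≫ ν ≫ q := by
    rw [h₀, Category.assoc s₀, ← Category.assoc j', hj'.1]
  have e : pullback.lift (x₀ ≫ pullback.fst g q) (s₀ ≫ j') h₂ = ψ (x₀ ≫ pullback.fst g q) s₀ h₀ :=
    h.hom_ext ((hj'.2.2 (i := i₀) (x₀ ≫ pullback.fst g q) s₀ h₀ h₂).trans (hψ₁ _ _ _).symm)
      (by rw [hψ₂, pullback.lift_snd_assoc, Category.assoc, hj'.1])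
  rw [← e, pullback.lift_snd]

end GrothLib.EtDescent21
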