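import Groth.Agent.Lib.EtDescent21.Fpqc
import Groth.Agent.Lib.EtDescent21.IsPullback

/-!
# fpqc descent of étale representability over an arbitrary scheme over the base
-/

set_option autoImplicit false
set_option backward.isDefEq.respectTransparency false
set_option backward.isDefEq.respectTransparency.types false

universe u

open CategoryTheory CategoryTheory.Limits AlgebraicGeometry Desc

namespace GrothLib.EtDescent21

open GrothLib.SchEffective GrothLib.DDPull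

variable {S X : Scheme.{u}} {g : X ⟶ S} {D : SchDDFam (fam g)}

theorem etSRep_of_etRep (hg : SGA1.UnivSubmersive g) [QuasiCompact g] [IsSeparated (D.obj PUnit.unit).hom]
    [QuasiCompact (D.obj PUnit.unit).hom] {S₁ : Scheme.{u}} {q : S₁ ⟶ S} (h : EtRep D q) : EtSRep D q := by
  obtain ⟨N, ν, n, hν, hn⟩ := h
  let i₀ : PUnit.{u + 1} := PUnit.unit
  have hsq := isPullback_of_uni hn i₀
  let p₀ := pullback.snd g (ν ≫ q)
  let g₁ := pullback.snd g q
  have hg₁ : SGA1.UnivSubmersive g₁ := MorphismProperty.pullback_snd g q hg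
  haveI := SGA1Sub21.surjective hg₁
  let f₁ : pullback g (ν ≫ q) ⟶ pullback g q :=
    pullback.lift (pullback.fst _ _) (p₀ ≫ ν) (by rw [Category.assoc]; exact pullback.condition)
  have e₁ : f₁ ≫ g₁ = p₀ ≫ ν := pullback.lift_snd _ _ _
  have h₁ : IsPullback f₁ p₀ g₁ ν := by
    refine IsPullback.of_right ?_ e₁ (IsPullback.of_hasPullback g q)
    rw [pullback.lift_fst]
    exact IsPullback.of_hasPullback g (ν ≫ q)
  have h₂ : IsPullback (n.a i₀) f₁ (D.obj i₀).hom (pullback.fst g q) := by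
    refine IsPullback.of_bot ?_ ((n.hom i₀).trans (pullback.lift_fst _ _ _).symm) (IsPullback.of_hasPullback g q)
    rw [e₁]
    exact hsq
  haveI : IsSeparated f₁ := MorphismProperty.of_isPullback h₂ ‹IsSeparated (D.obj PUnit.unit).hom›
  haveI : QuasiCompact f₁ := MorphismProperty.of_isPullback h₂ ‹QuasiCompact (D.obj PUnit.unit).hom›
  exact ⟨N, ν, n, hν, SGA1Sub21.isSeparated_of_isPullback h₁ hg₁, SGA1Sub21.quasiCompact_of_isPullback h₁, hn⟩

section trans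

variable {S₁ X₁ : Scheme.{u}} {q : S₁ ⟶ S} {g₁ : X₁ ⟶ S₁} {p' : X₁ ⟶ X} (sq : IsPullback p' g₁ g q)

/-- Elements of the pulled-back datum are elements of the datum. -/
noncomputable def pullElt {T : Scheme.{u}} {t : T ⟶ S₁} {t' : T ⟶ S} (e : t ≫ q = t') (a : Elt D t') :
    Elt (pullCart sq D) t :=
  (Elt.castEq e.symm a).pull (α := fun j => j) (p' := fun _ => p') (cart_w sq)

theorem pullElt_bijective {T : Scheme.{u}} {t : T ⟶ S₁} {t' : T ⟶ S} (e : t ≫ q = t') :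
    Function.Bijective (pullElt (D := D) sq e) :=
  (pull_bijective sq t).comp (Elt.castEq e.symm).bijective

theorem pullElt_isRes_iff {T N : Scheme.{u}} {t : T ⟶ S₁} {t' : T ⟶ S} (e : t ≫ q = t') {μ : N ⟶ S₁}
    {μ' : N ⟶ S} (e' : μ ≫ q = μ') {n : Elt D μ'} {a : Elt D t'} {j : T ⟶ N} (hj : j ≫ μ = t) :
    IsRes (pullElt sq e' n) j (pullElt sq e a) ↔ IsRes n j a := by
  subst e e'
  constructor
  · intro h
    have h0 : j ≫ μ ≫ q = t ≫ q := by rw [← Category.assoc, h.1]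
    have h1 := Elt.pull_isRes (α := fun j => j) (p' := fun _ => p') (cart_w sq) hj (n.isRes_res j h0)
    have := (pull_bijective sq t).1 (h.eq.trans h1.eq.symm)
    have this' : a = n.res j h0 := this
    exact this' ▸ n.isRes_res j h0
  · intro h
    exact Elt.pull_isRes (α := fun j => j) (p' := fun _ => p') (cart_w sq) hj h

theorem uni_trans {S₂ : Scheme.{u}} {r : S₂ ⟶ S₁} {q' : S₂ ⟶ S} (hq : r ≫ q = q') {N : Scheme.{u}}
    (ν : N ⟶ S₂) (n : Elt D (ν ≫ q')) :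
    Uni (pullCart sq D) r ν (pullElt sq (t := ν ≫ r) ((Category.assoc _ _ _).trans (congrArg (ν ≫ ·) hq)) n) ↔
      Uni D q' ν n := by
  have et : ∀ {T : Scheme.{u}} (t : T ⟶ S₂), (t ≫ r) ≫ q = t ≫ q' := fun t => by rw [Category.assoc, hq]
  have hc : ∀ {T : Scheme.{u}} {t : T ⟶ S₂} {j : T ⟶ N}, j ≫ ν = t → j ≫ ν ≫ r = t ≫ r := fun h => by
    rw [← Category.assoc, h]
  constructor
  · intro hn T t a
    obtain ⟨j, hj, hu⟩ := hn t (pullElt sq (et t) a)
    exact ⟨j, ⟨hj.1, (pullElt_isRes_iff sq (et t) (et ν) (hc hj.1)).1 hj.2⟩,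
      fun j' hj' => hu j' ⟨hj'.1, (pullElt_isRes_iff sq (et t) (et ν) (hc hj'.1)).2 hj'.2⟩⟩
  · intro hn T t b
    obtain ⟨a, rfl⟩ := (pullElt_bijective sq (et t)).2 b
    obtain ⟨j, hj, hu⟩ := hn t a
    exact ⟨j, ⟨hj.1, (pullElt_isRes_iff sq (et t) (et ν) (hc hj.1)).2 hj.2⟩,
      fun j' hj' => hu j' ⟨hj'.1, (pullElt_isRes_iff sq (et t) (et ν) (hc hj'.1)).1 hj'.2⟩⟩

theorem etSRep_trans_iff {S₂ : Scheme.{u}} {r : S₂ ⟶ S₁} {q' : S₂ ⟶ S} (hq : r ≫ q = q') :
    EtSRep (pullCart sq D) r ↔ EtSRep D q' := by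
  constructor
  · rintro ⟨N, ν, m, h₁, h₂, h₃, hm⟩
    obtain ⟨n, rfl⟩ := (pullElt_bijective sq (D := D) (t := ν ≫ r)
      ((Category.assoc _ _ _).trans (congrArg (ν ≫ ·) hq))).2 m
    exact ⟨N, ν, n, h₁, h₂, h₃, (uni_trans sq hq ν n).1 hm⟩
  · rintro ⟨N, ν, n, h₁, h₂, h₃, hn⟩
    exact ⟨N, ν, _, h₁, h₂, h₃, (uni_trans sq hq ν n).2 hn⟩

end trans

theorem etSRep_of_fpqc' {S₁ S₂ : Scheme.{u}} {q : S₁ ⟶ S} (r : S₂ ⟶ S₁) [Flat r] [Surjective r] [QuasiCompact r]
    (h : EtSRep D (r ≫ q)) : EtSRep D q :=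
  (etSRep_trans_iff (IsPullback.of_hasPullback g q) (Category.id_comp q)).1
    (etSRep_of_fpqc r ((etSRep_trans_iff (IsPullback.of_hasPullback g q) rfl).2 h))

end GrothLib.EtDescent21
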