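import Groth.Agent.Lib.EtDescent21.Transitive
import Groth.Agent.Lib.SchEffective.QuasiAffine
import Groth.Agent.Lib.AlgSp.LqfDescent
import Groth.Agent.Lib.EtSite.FpqcDescent
import Mathlib.AlgebraicGeometry.Morphisms.LocalFlatDescent
import Groth.Agent.Lib.EtBasicB.OverField

/-!
# Étale separated quasi-compact representability descends along fpqc morphisms
-/

set_option autoImplicit false
set_option backward.isDefEq.respectTransparency false
set_option backward.isDefEq.respectTransparency.types false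

universe u

open CategoryTheory CategoryTheory.Limits AlgebraicGeometry Desc

namespace GrothLib.EtDescent21

open GrothLib.SchEffective GrothLib.DDPull

variable {S X : Scheme.{u}} {g : X ⟶ S} {D : SchDDFam (fam g)}

theorem qcQA_of_etale {N S₁ : Scheme.{u}} (ν : N ⟶ S₁) [Etale ν] [IsSeparated ν] [QuasiCompact ν] : qcQA ν := by
  refine ⟨inferInstance, (GrothLib.IndQA.indQA_iff _).mpr fun V hV U hle hU => ?_⟩
  haveI : IsAffine (V : Scheme.{u}) := hV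
  haveI : CompactSpace (U : Scheme.{u}) := isCompact_iff_compactSpace.mp hU
  haveI : IsSeparated (Scheme.Hom.resLE ν V U hle) := by unfold Scheme.Hom.resLE; infer_instance
  haveI : LocallyOfFiniteType (Scheme.Hom.resLE ν V U hle) := by unfold Scheme.Hom.resLE; infer_instance
  haveI : Etale (Scheme.Hom.resLE ν V U hle) := by unfold Scheme.Hom.resLE; infer_instance
  haveI : LocallyQuasiFinite (Scheme.Hom.resLE ν V U hle) :=
    GrothLib.EtBasicB.locallyQuasiFinite_of_unramified (Scheme.Hom.resLE ν V U hle)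
  exact GrothLib.AlgSp.isQuasiAffine_of_lqf (Scheme.Hom.resLE ν V U hle)

/-- Étale separated quasi-compact representability. -/
def EtSRep (D : SchDDFam (fam g)) {S₁ : Scheme.{u}} (q : S₁ ⟶ S) : Prop :=
  ∃ (N : Scheme.{u}) (ν : N ⟶ S₁) (n : Elt D (ν ≫ q)), Etale ν ∧ IsSeparated ν ∧ QuasiCompact ν ∧ Uni D q ν n

theorem EtSRep.etRep {S₁ : Scheme.{u}} {q : S₁ ⟶ S} (h : EtSRep D q) : EtRep D q := by
  obtain ⟨N, ν, n, h₁, -, -, hn⟩ := h
  exact ⟨N, ν, n, h₁, hn⟩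

theorem etSRep_comp {S₁ S₂ : Scheme.{u}} {q : S₁ ⟶ S} (r : S₂ ⟶ S₁) (h : EtSRep D q) :
    EtSRep D (r ≫ q) := by
  obtain ⟨N, ν, n, _, _, _, hn⟩ := h
  obtain ⟨n', hn'⟩ := exists_uni_baseChange hn r
  exact ⟨_, _, n', inferInstance, inferInstance, inferInstance, hn'⟩

theorem etSRep_of_fpqc {S₁ : Scheme.{u}} (p : S₁ ⟶ S) [Flat p] [Surjective p] [QuasiCompact p]
    (h : EtSRep D p) : EtSRep D (𝟙 S) := by
  obtain ⟨N, ν, n, _, _, _, hn⟩ := h
  let R : Reps D (fam p) := ⟨fun _ => N, fun _ => ν, fun _ => n, fun _ => hn⟩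
  have hp : Presieve.ofArrows (fun _ : PUnit.{u + 1} => S₁) (fam p) ∈ Scheme.fpqcPrecoverage S := by
    rw [Presieve.ofArrows_pUnit]
    exact Scheme.Hom.singleton_mem_fpqcPrecoverage p
  have hR : IsRep R.dd := isRep_of_isEffective (DDFull.ofArrows_mem hp)
    (isEffective_of_qcQA (fam p) hp R.dd fun _ => qcQA_of_etale ν)
  obtain ⟨M, μ, m, hm, e, he⟩ := exists_universal_of_reps R (DDFull.ofArrows_mem hp) hR
  obtain ⟨m', hm'⟩ := uni_of_isUniversal hm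
  have hQ : (@Surjective ⊓ @Flat ⊓ @QuasiCompact : MorphismProperty Scheme.{u}) p := ⟨⟨‹_›, ‹_›⟩, ‹_›⟩
  refine ⟨M, μ, m', ?_, ?_, ?_, hm'⟩
  · exact MorphismProperty.of_isPullback_of_descendsAlong (P := @Etale) he.flip hQ ‹Etale ν›
  · exact MorphismProperty.of_isPullback_of_descendsAlong (P := @IsSeparated) he.flip hQ ‹IsSeparated ν›
  · exact MorphismProperty.of_isPullback_of_descendsAlong (P := @QuasiCompact) he.flip hQ ‹QuasiCompact ν›

theorem etSRep_fpqc_iff {S₁ : Scheme.{u}} (p : S₁ ⟶ S) [Flat p] [Surjective p] [QuasiCompact p] :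
    EtSRep D (𝟙 S) ↔ EtSRep D p :=
  ⟨fun h => Category.comp_id p ▸ etSRep_comp p h, etSRep_of_fpqc p⟩

/-- The datum is the canonical one of an étale separated quasi-compact scheme. -/
def EffEtS (D : SchDDFam (fam g)) : Prop :=
  ∃ U : Over S, Etale U.hom ∧ IsSeparated U.hom ∧ QuasiCompact U.hom ∧
    Nonempty ((toDDFam (fam g)).obj U ≅ D)

theorem effEtS_iff (hg : SGA1.UnivSubmersive g) :
    EffEtS D ↔ ∃ (M : Scheme.{u}) (μ : M ⟶ S) (m : Elt D μ),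
      Etale μ ∧ IsSeparated μ ∧ QuasiCompact μ ∧ IsUniversal m := by
  constructor
  · rintro ⟨U, hU, h₁, h₂, ⟨e⟩⟩
    obtain ⟨m, hm⟩ := exists_universal_of_iso hg U e
    exact ⟨_, _, m, hU, h₁, h₂, hm⟩
  · rintro ⟨M, μ, m, hμ, h₁, h₂, hm⟩
    exact ⟨Over.mk μ, hμ, h₁, h₂, nonempty_iso_of_isUniversal hm⟩

section cart

variable {S₁ X₁ : Scheme.{u}} {q : S₁ ⟶ S} {g₁ : X₁ ⟶ S₁} {p' : X₁ ⟶ X} (sq : IsPullback p' g₁ g q)

theorem effEtS_pull_iff (hg : SGA1.UnivSubmersive g) : EffEtS (pullCart sq D) ↔ EtSRep D q := by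
  rw [effEtS_iff (MorphismProperty.of_isPullback sq hg)]
  constructor
  · rintro ⟨N, ν, m, hν, h₁, h₂, hm⟩
    obtain ⟨n, rfl⟩ := (pull_bijective sq ν).2 m
    exact ⟨N, ν, n, hν, h₁, h₂, (uni_iff sq ν n).2 hm⟩
  · rintro ⟨N, ν, n, hν, h₁, h₂, hn⟩
    exact ⟨N, ν, _, hν, h₁, h₂, (uni_iff sq ν n).1 hn⟩

theorem effEtS_pull_lift_iff (sq : IsPullback p' g₁ g q) (hg : SGA1.UnivSubmersive g)
    (D : SchDDFam (fun _ : PUnit.{1} => g))
    (w : ∀ _ : PUnit.{1}, p' ≫ g = g₁ ≫ q) :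
    (∃ U : Over S₁, Etale U.hom ∧ IsSeparated U.hom ∧ QuasiCompact U.hom ∧
      Nonempty ((toDDFam (fun _ : PUnit.{1} => g₁)).obj U ≅
        (pullDDFam (f := fun _ : PUnit.{1} => g) (f' := fun _ : PUnit.{1} => g₁) (α := id) (p := q)
          (p' := fun _ => p') w).obj D)) ↔ EtSRep (lift D) q := by
  refine Iff.trans ?_ (effEtS_pull_iff (D := lift D) sq hg)
  constructor <;>
  · rintro ⟨U, hU, h₁, h₂, ⟨e⟩⟩
    exact ⟨U, hU, h₁, h₂, ⟨(SchDDFam.ofSchDD g₁).mapIso ((SchDDFam.toSchDD g₁).mapIso e)⟩⟩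

end cart

theorem effEtS_iff_etSRep_id (hg : SGA1.UnivSubmersive g) : EffEtS D ↔ EtSRep D (𝟙 S) := by
  have sq : IsPullback (𝟙 X) g g (𝟙 S) := IsPullback.of_horiz_isIso ⟨by simp⟩
  rw [← effEtS_pull_iff sq hg]
  let e : pullCart sq D ≅ D := DDPull.selfObj (𝟙 X) (Category.id_comp g) D
  exact ⟨fun ⟨U, a, b, c, ⟨i⟩⟩ => ⟨U, a, b, c, ⟨i ≪≫ e.symm⟩⟩, fun ⟨U, a, b, c, ⟨i⟩⟩ => ⟨U, a, b, c, ⟨i ≪≫ e⟩⟩⟩

theorem effEtS_lift_iff (D : SchDDFam (fun _ : PUnit.{1} => g)) :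
    (∃ U : Over S, Etale U.hom ∧ IsSeparated U.hom ∧ QuasiCompact U.hom ∧
      Nonempty ((toDDFam (fun _ : PUnit.{1} => g)).obj U ≅ D)) ↔ EffEtS (lift D) := by
  constructor <;>
  · rintro ⟨U, hU, h₁, h₂, ⟨e⟩⟩
    exact ⟨U, hU, h₁, h₂, ⟨(SchDDFam.ofSchDD g).mapIso ((SchDDFam.toSchDD g).mapIso e)⟩⟩

end GrothLib.EtDescent21
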