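import Groth.Agent.Lib.Hensel.LocalHull
import Groth.Agent.Lib.EtDescent21.Complete
import Mathlib.FieldTheory.IsSepClosed

/-!
# A strictly henselian faithfully flat extension of a local ring
-/

set_option autoImplicit false
set_option linter.style.haveILetI false

universe u

open CategoryTheory AlgebraicGeometry IsLocalRing GrothLib.Hensel

namespace GrothLib.EtDescent21

theorem exists_strictHenselian (O : Type u) [CommRing O] [IsLocalRing O] :
    ∃ (A : Type u) (_ : CommRing A) (_ : HenselianLocalRing A) (_ : IsSepClosed (ResidueField A)) (φ : O →+* A),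
      φ.Flat ∧ IsLocalHom φ ∧ (maximalIdeal O).map φ = maximalIdeal A := by
  let k := ResidueField O
  let C := SeparableClosure k
  letI : Algebra O C := ((algebraMap k C).comp (residue O)).toAlgebra
  haveI : IsScalarTower O k C := IsScalarTower.of_algebraMap_eq fun _ => rfl
  haveI hloc : IsLocalHom (algebraMap O C) := isLocalHom_algebraMap_of_residueField C
  haveI : IsSepClosed C := IsSepClosure.sep_closed k
  haveI : Algebra.IsSeparable k C := IsSepClosure.separable
  let A := Hull O C
  haveI hhens : HenselianLocalRing A := FieldHull.henselianLocalRing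
  let e : ResidueField A ≃ₐ[k] C := FieldHull.residueEquiv
  haveI : IsSepClosure k C := inferInstance
  haveI : IsSepClosed (ResidueField A) := (isSepClosure_of_algEquiv e.symm).sep_closed
  exact ⟨A, inferInstance, hhens, ‹_›, algebraMap O A, RingHom.flat_algebraMap_iff.2 inferInstance,
    inferInstance, FieldHull.map_maximalIdeal⟩

/-- Points over the closed point are the closed point. -/
theorem eq_closedPoint_of_comap {O A : Type u} [CommRing O] [IsLocalRing O] [CommRing A] [IsLocalRing A]
    {φ : O →+* A} (h : (maximalIdeal O).map φ = maximalIdeal A) (x : PrimeSpectrum A)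
    (hx : PrimeSpectrum.comap φ x = closedPoint O) : x = closedPoint A := by
  refine PrimeSpectrum.ext ((IsLocalRing.maximalIdeal.isMaximal A).eq_of_le x.isPrime.ne_top ?_).symm
  rw [← h, Ideal.map_le_iff_le_comap]
  exact (congrArg PrimeSpectrum.asIdeal hx).ge

end GrothLib.EtDescent21
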