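import Groth.Agent.Lib.EtDescent21.Spread
import Groth.Agent.Lib.EtDescent21.Descend
import Groth.Agent.Lib.EtDescent21.StrictHensel

/-!
# Reduction of étale effectivity to strictly henselian local rings
-/

set_option autoImplicit false
set_option backward.isDefEq.respectTransparency false
set_option backward.isDefEq.respectTransparency.types false

universe u

open CategoryTheory CategoryTheory.Limits AlgebraicGeometry Desc

namespace GrothLib.EtDescent21

open GrothLib.SchEffective GrothLib.DDPull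

variable {S X : Scheme.{u}} {g : X ⟶ S} {D : SchDDFam (fam g)}

section trans

variable {S₁ X₁ : Scheme.{u}} {q : S₁ ⟶ S} {g₁ : X₁ ⟶ S₁} {p' : X₁ ⟶ X} (sq : IsPullback p' g₁ g q)

theorem etRep_trans_iff {S₂ : Scheme.{u}} {r : S₂ ⟶ S₁} {q' : S₂ ⟶ S} (hq : r ≫ q = q') :
    EtRep (pullCart sq D) r ↔ EtRep D q' := by
  constructor
  · rintro ⟨N, ν, m, h₁, hm⟩
    obtain ⟨n, rfl⟩ := (pullElt_bijective sq (D := D) (t := ν ≫ r)
      ((Category.assoc _ _ _).trans (congrArg (ν ≫ ·) hq))).2 m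
    exact ⟨N, ν, n, h₁, (uni_trans sq hq ν n).1 hm⟩
  · rintro ⟨N, ν, n, h₁, hn⟩
    exact ⟨N, ν, _, h₁, (uni_trans sq hq ν n).2 hn⟩

end trans

/-- Étale representability over a scheme is local on it. -/
theorem etRep_of_openCover {S₁ : Scheme.{u}} {q : S₁ ⟶ S} {κ : Type u} (U : κ → S₁.Opens)
    (hU : TopologicalSpace.IsOpenCover U) (h : ∀ k, EtRep D ((U k).ι ≫ q)) : EtRep D q :=
  (etRep_trans_iff (IsPullback.of_hasPullback g q) (Category.id_comp q)).1
    (etRep_id_of_openCover U hU fun k => (etRep_trans_iff (IsPullback.of_hasPullback g q) rfl).2 (h k))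

/-- The points over whose local ring `D` is representable. -/
def goodSet (D : SchDDFam (fam g)) : Set S := {s | EtRep D (S.fromSpecStalk s)}

variable [LocallyOfFinitePresentation g] [QuasiCompact g] [QuasiSeparated g] [Etale (obj₀ D).hom]
  [QuasiCompact (obj₀ D).hom] [IsSeparated (obj₀ D).hom]

theorem subset_goodSet {W : S.Opens} (h : EtRep D W.ι) : (W : Set S) ⊆ goodSet D :=
  fun _ hs => etRep_stalk_of_nhd hs h

theorem exists_open_goodSet (hg : SGA1.UnivSubmersive g) :
    ∃ G : S.Opens, (G : Set S) = goodSet D ∧ EtRep D G.ι := by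
  choose W haW hW using fun a : {s : S // s ∈ goodSet D} => exists_etRep_nhd (D := D) hg a.2
  let G : S.Opens := ⨆ a, W a
  refine ⟨G, Set.Subset.antisymm (fun s hs => ?_) fun s hs => ?_, ?_⟩
  · obtain ⟨a, ha⟩ := TopologicalSpace.Opens.mem_iSup.1 hs
    exact subset_goodSet (hW a) ha
  · exact TopologicalSpace.Opens.mem_iSup.2 ⟨⟨s, hs⟩, haW ⟨s, hs⟩⟩
  · refine etRep_of_openCover (fun a => G.ι ⁻¹ᵁ W a) (TopologicalSpace.IsOpenCover.mk (eq_top_iff.2 fun z _ => ?_)) fun a => ?_
    · obtain ⟨a, ha⟩ := TopologicalSpace.Opens.mem_iSup.1 z.2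
      exact TopologicalSpace.Opens.mem_iSup.2 ⟨a, ha⟩
    · have hr : Set.range ((G.ι ⁻¹ᵁ W a).ι ≫ G.ι) ⊆ Set.range (W a).ι := by
        rw [Scheme.Opens.range_ι]
        rintro _ ⟨z, rfl⟩
        exact z.2
      rw [← IsOpenImmersion.lift_fac (W a).ι _ hr]
      exact etRep_comp _ (hW a)

/-- A point whose strict generalisations are good, outside the good set. -/
theorem exists_minimal_bad {G : S.Opens} (h : (G : Set S) ≠ Set.univ) :
    ∃ a : S, a ∉ G ∧ ∀ x : Spec (S.presheaf.stalk a), x ≠ IsLocalRing.closedPoint (S.presheaf.stalk a) →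
      S.fromSpecStalk a x ∈ G := by
  obtain ⟨z, hz⟩ := (Set.ne_univ_iff_exists_notMem _).1 h
  let j := S.fromSpecStalk z
  let C : Set (PrimeSpectrum (S.presheaf.stalk z)) := (j ⁻¹ᵁ G : Set (Spec (S.presheaf.stalk z)))ᶜ
  obtain ⟨I, hI⟩ := (PrimeSpectrum.isClosed_iff_zeroLocus_ideal C).1 (j ⁻¹ᵁ G).2.isClosed_compl
  have hzC : IsLocalRing.closedPoint (S.presheaf.stalk z) ∈ C := by
    show ¬ j (IsLocalRing.closedPoint (S.presheaf.stalk z)) ∈ G
    rw [Scheme.fromSpecStalk_closedPoint]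
    exact hz
  rw [hI] at hzC
  obtain ⟨p, hp, -⟩ := Ideal.exists_minimalPrimes_le
    (J := (IsLocalRing.closedPoint (S.presheaf.stalk z)).asIdeal) ((PrimeSpectrum.mem_zeroLocus _ _).1 hzC)
  let P : Spec (S.presheaf.stalk z) := (⟨p, hp.1.1⟩ : PrimeSpectrum _)
  have hP : j P ∉ G := by
    have : P ∈ C := by rw [hI]; exact (PrimeSpectrum.mem_zeroLocus _ _).2 hp.1.2
    exact this
  refine ⟨j P, hP, fun x hx => ?_⟩
  by_contra hbad
  set b := S.fromSpecStalk (j P) x with hb
  have h₁ : b ⤳ j P := by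
    have : b ∈ Set.range (S.fromSpecStalk (j P)) := ⟨x, rfl⟩
    rwa [Scheme.range_fromSpecStalk] at this
  have h₂ : j P ⤳ z := by
    have : j P ∈ Set.range j := ⟨P, rfl⟩
    rwa [Scheme.range_fromSpecStalk] at this
  obtain ⟨y, hy⟩ : b ∈ Set.range j := by rw [Scheme.range_fromSpecStalk]; exact h₁.trans h₂
  have hyC : y ∈ C := fun hyG => hbad (show b ∈ G from hy ▸ hyG)
  rw [hI] at hyC
  have hle : y.asIdeal ≤ p := by
    have : y ⤳ P := j.isEmbedding.isInducing.specializes_iff.1 (hy.symm ▸ h₁)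
    exact (PrimeSpectrum.le_iff_specializes (R := S.presheaf.stalk z) y P).2 this
  have : y = P := PrimeSpectrum.ext
    (le_antisymm hle (hp.2 ⟨y.isPrime, (PrimeSpectrum.mem_zeroLocus _ _).1 hyC⟩ hle))
  refine hx ((S.fromSpecStalk (j P)).isEmbedding.injective ?_)
  rw [Scheme.fromSpecStalk_closedPoint, ← hb, ← hy, this]

/-- Effectivity follows from the local step over strictly henselian rings. -/
theorem etRep_id_of_localStep (hg : SGA1.UnivSubmersive g)
    (step : ∀ (A : Type u) [CommRing A] [HenselianLocalRing A] [IsSepClosed (IsLocalRing.ResidueField A)]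
      (q : Spec (CommRingCat.of A) ⟶ S) (P : (Spec (CommRingCat.of A)).Opens),
      (∀ x : Spec (CommRingCat.of A), x ∈ P ↔ x ≠ IsLocalRing.closedPoint A) →
      EtRep D (P.ι ≫ q) → EtRep D q)
    (hP : ∀ (A : Type u) [CommRing A] [HenselianLocalRing A],
      IsClosed ({IsLocalRing.closedPoint A} : Set (PrimeSpectrum A)) := by
        intro A _ _; exact IsLocalRing.isClosed_singleton_closedPoint A) :
    EtRep D (𝟙 S) := by
  obtain ⟨G, hG, hGrep⟩ := exists_open_goodSet (D := D) hg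
  by_cases hu : (G : Set S) = Set.univ
  · refine etRep_of_openCover (fun _ : PUnit.{u + 1} => G)
      (TopologicalSpace.IsOpenCover.mk (eq_top_iff.2 fun z _ => TopologicalSpace.Opens.mem_iSup.2
        ⟨PUnit.unit, show z ∈ (G : Set S) from hu.symm ▸ trivial⟩)) fun _ => ?_
    rw [Category.comp_id]
    exact hGrep
  · exfalso
    obtain ⟨a, ha, hgen⟩ := exists_minimal_bad hu
    refine ha (show a ∈ (G : Set S) from hG.symm ▸ (show EtRep D (S.fromSpecStalk a) from ?_))
    obtain ⟨A, _, _, _, φ, hF, hL, hm⟩ := exists_strictHenselian (S.presheaf.stalk a)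
    obtain ⟨h₁, h₂, h₃⟩ := spec_map_flat_surjective φ hF
    haveI := h₁; haveI := h₂; haveI := h₃
    let r := Spec.map (CommRingCat.ofHom φ)
    let P : (Spec (CommRingCat.of A)).Opens := ⟨{IsLocalRing.closedPoint A}ᶜ, (hP A).isOpen_compl⟩
    have hrange : Set.range (P.ι ≫ r ≫ S.fromSpecStalk a) ⊆ Set.range G.ι := by
      rw [Scheme.Opens.range_ι]
      rintro _ ⟨x, rfl⟩
      refine hgen (r x.1) fun h => ?_
      exact x.2 (eq_closedPoint_of_comap hm x.1 h)
    have h : EtRep D (P.ι ≫ r ≫ S.fromSpecStalk a) := by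
      rw [← IsOpenImmersion.lift_fac G.ι _ hrange]
      exact etRep_comp _ hGrep
    exact (etSRep_of_fpqc' r (etSRep_of_etRep hg (step A _ P (fun x => Iff.rfl) h))).etRep

end GrothLib.EtDescent21
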