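import Groth.Agent.Lib.EtDescent21.Cart
import Groth.Agent.Lib.SchEffective.Glue

/-!
# Étale representability is local on the base; change of index universe
-/

set_option autoImplicit false
set_option backward.isDefEq.respectTransparency false
set_option backward.isDefEq.respectTransparency.types false

universe u

open CategoryTheory CategoryTheory.Limits AlgebraicGeometry Desc

namespace GrothLib.EtDescent21

open GrothLib.SchEffective GrothLib.DDPull

variable {S X : Scheme.{u}} {g : X ⟶ S} {D : SchDDFam (fam g)}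

theorem uni_of_isUniversal {M : Scheme.{u}} {μ : M ⟶ S} {m : Elt D μ} (hm : IsUniversal m) :
    ∃ m' : Elt D (μ ≫ 𝟙 S), Uni D (𝟙 S) μ m' := by
  have hμ : 𝟙 M ≫ μ = μ ≫ 𝟙 S := by rw [Category.id_comp, Category.comp_id]
  refine ⟨m.res (𝟙 M) hμ, fun T t a => ?_⟩
  obtain ⟨j, hj, hu⟩ := hm _ a
  have hres : IsRes m (𝟙 M) (m.res (𝟙 M) hμ) := m.isRes_res _ _
  refine ⟨j, ⟨hj.1.trans (Category.comp_id t), ?_, fun T' i x s h h' => ?_⟩, fun j' hj' => hu j' ?_⟩
  · rw [Category.comp_id, hj.1, Category.comp_id]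
  · have h2 : x ≫ fam g i = (s ≫ j) ≫ μ := by rw [Category.assoc, hj.1]; exact h
    rw [Elt.res_app m _ _ x (s ≫ j) h' (by rw [Category.comp_id]; exact h2)]
    exact (m.app_congr rfl (Category.comp_id _) _ _).trans (hj.2 x s h h2)
  · exact (Category.comp_id j') ▸ hres.comp hj'.2

/-- Étale representability of the functor of elements is local on the base. -/
theorem etRep_id_of_openCover {κ : Type u} (U : κ → S.Opens) (hU : TopologicalSpace.IsOpenCover U)
    (h : ∀ k, EtRep D (U k).ι) : EtRep D (𝟙 S) := by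
  have hrep : ∀ k, IsRepOver D (U k).ι := fun k => by
    obtain ⟨N, ν, n, -, hn⟩ := h k
    exact ⟨N, ν, n, hn⟩
  obtain ⟨M, μ, m, hm⟩ := isRep_of_openCover U hU hrep
  obtain ⟨m', hm'⟩ := uni_of_isUniversal hm
  refine ⟨M, μ, m', ?_, hm'⟩
  let 𝒰 := S.openCoverOfIsOpenCover U hU
  refine (IsZariskiLocalAtTarget.iff_of_openCover (P := @Etale) 𝒰).2 fun k => ?_
  obtain ⟨N, ν, n, hν, hn⟩ := h k
  obtain ⟨nk, hk⟩ := exists_uni_baseChange hm' (U k).ι
  have hq : (U k).ι ≫ 𝟙 S = (U k).ι := Category.comp_id _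
  have : ∃ n'' : Elt D (pullback.snd μ (U k).ι ≫ (U k).ι), Uni D (U k).ι (pullback.snd μ (U k).ι) n'' := by
    revert hk nk
    rw [hq]
    exact fun nk hk => ⟨nk, hk⟩
  obtain ⟨n'', hn''⟩ := this
  obtain ⟨e, he⟩ := exists_iso_of_uni hn'' hn
  change Etale (pullback.snd μ (U k).ι)
  rw [← he]
  infer_instance

theorem etRep_openCover_iff {κ : Type u} (U : κ → S.Opens) (hU : TopologicalSpace.IsOpenCover U) :
    EtRep D (𝟙 S) ↔ ∀ k, EtRep D (U k).ι :=
  ⟨fun h k => Category.comp_id (U k).ι ▸ etRep_comp (U k).ι h, etRep_id_of_openCover U hU⟩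

section univ

/-- The datum with index type in the universe of the schemes. -/
abbrev lift (D : SchDDFam (fun _ : PUnit.{1} => g)) : SchDDFam (fam g) :=
  (SchDDFam.ofSchDD g).obj ((SchDDFam.toSchDD g).obj D)

/-- `EffEt` for the index type `PUnit.{1}`. -/
theorem effEt_lift_iff (D : SchDDFam (fun _ : PUnit.{1} => g)) :
    (∃ U : Over S, Etale U.hom ∧ Nonempty ((toDDFam (fun _ : PUnit.{1} => g)).obj U ≅ D)) ↔ EffEt (lift D) := by
  constructor
  · rintro ⟨U, hU, ⟨e⟩⟩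
    exact ⟨U, hU, ⟨(SchDDFam.ofSchDD g).mapIso ((SchDDFam.toSchDD g).mapIso e)⟩⟩
  · rintro ⟨U, hU, ⟨e⟩⟩
    exact ⟨U, hU, ⟨(SchDDFam.ofSchDD g).mapIso ((SchDDFam.toSchDD g).mapIso e)⟩⟩

variable {S₁ X₁ : Scheme.{u}} {q : S₁ ⟶ S} {g₁ : X₁ ⟶ S₁} {p' : X₁ ⟶ X}

theorem effEt_pull_lift_iff (sq : IsPullback p' g₁ g q) (hg : SGA1.UnivSubmersive g)
    (D : SchDDFam (fun _ : PUnit.{1} => g))
    (w : ∀ _ : PUnit.{1}, p' ≫ g = g₁ ≫ q) :
    (∃ U : Over S₁, Etale U.hom ∧ Nonempty ((toDDFam (fun _ : PUnit.{1} => g₁)).obj U ≅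
      (pullDDFam (f := fun _ : PUnit.{1} => g) (f' := fun _ : PUnit.{1} => g₁) (α := id) (p := q)
        (p' := fun _ => p') w).obj D)) ↔ EtRep (lift D) q :=
  (effEt_lift_iff _).trans (effEt_pull_iff (D := lift D) sq hg)

end univ

end GrothLib.EtDescent21
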