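import Groth.Agent.Lib.EtDescent21.Cart
import Groth.Agent.Lib.EtDescent21.Zariski
import Groth.Agent.Lib.SchEffective.Glue

/-!
# Étale representability from open sub-functors
-/

set_option autoImplicit false
set_option backward.isDefEq.respectTransparency false
set_option backward.isDefEq.respectTransparency.types false

universe u

open CategoryTheory CategoryTheory.Limits AlgebraicGeometry Desc

namespace GrothLib.EtDescent21

open GrothLib.SchEffective GrothLib.DDPull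

variable {S X : Scheme.{u}} {g : X ⟶ S} {D : SchDDFam (fam g)}

theorem isRes_id_res {T M : Scheme.{u}} {t : T ⟶ S} {μ : M ⟶ S} {m : Elt D μ} {l : T ⟶ M} {a : Elt D t}
    (h : IsRes m l a) : IsRes a (𝟙 T) (m.res l rfl) := by
  obtain rfl := h.1
  rw [← h.eq]
  exact isRes_id a

/-- A factor of a restriction is a restriction. -/
theorem isRes_res_of_comp {T V M : Scheme.{u}} {t : T ⟶ S} {tV : V ⟶ S} {μ : M ⟶ S} {m : Elt D μ}
    {l' : T ⟶ V} {j : V ⟶ M} (hj : j ≫ μ = tV) {a : Elt D t} (h : IsRes m (l' ≫ j) a) :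
    IsRes (m.res j hj) l' a := by
  refine ⟨by rw [← hj, ← Category.assoc, h.1], fun T' i x s hx hx' => ?_⟩
  have h2 : x ≫ fam g i = (s ≫ l' ≫ j) ≫ μ := by rw [Category.assoc, h.1]; exact hx
  rw [Elt.res_app m j hj x (s ≫ l') hx' (by rw [Category.assoc s l' j]; exact h2), ← h.2 x s hx h2]
  exact m.app_congr rfl (Category.assoc _ _ _) _ _

/-- Restrictions along equal structure maps. -/
theorem isRes_res_congr {T' T M : Scheme.{u}} {t : T ⟶ S} {t' : T' ⟶ S} {ζ : T' ⟶ T} {a : Elt D t}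
    {μ : M ⟶ S} {m : Elt D μ} {l : T' ⟶ M} (h : ζ ≫ t = t') (hl : IsRes m l (a.res ζ h)) :
    IsRes m l (a.res ζ rfl) := by
  subst h; exact hl

/-- Representability by open sub-functors represented by étale schemes. -/
theorem etRep_id_of_openSub {κ : Type u} (M : κ → Scheme.{u}) (μ : ∀ k, M k ⟶ S) (hμ : ∀ k, Etale (μ k))
    (m : ∀ k, Elt D (μ k))
    (V : ∀ (_ : κ) {T : Scheme.{u}} (t : T ⟶ S) (_ : Elt D t), T.Opens)
    (hV : ∀ (k : κ) {T : Scheme.{u}} (t : T ⟶ S) (a : Elt D t) {T' : Scheme.{u}} (h : T' ⟶ T),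
      Set.range h ⊆ (V k t a : Set T) ↔ ∃ l : T' ⟶ M k, IsRes (m k) l (a.res h rfl))
    (huniq : ∀ (k : κ) {T : Scheme.{u}} (t : T ⟶ S) (a : Elt D t) (h h' : T ⟶ M k),
      IsRes (m k) h a → IsRes (m k) h' a → h = h')
    (hcov : ∀ {T : Scheme.{u}} (t : T ⟶ S) (a : Elt D t) (z : T), ∃ k, z ∈ V k t a) : EtRep D (𝟙 S) := by
  obtain ⟨N, ν, n, hn⟩ := isRep_of_openSub M μ m V hV huniq hcov
  obtain ⟨n', hn'⟩ := uni_of_isUniversal hn
  refine ⟨N, ν, n', ?_, hn'⟩
  let 𝒰 : N.OpenCover := N.openCoverOfIsOpenCover (fun k => V k ν n)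
    (TopologicalSpace.IsOpenCover.mk (eq_top_iff.mpr fun z _ =>
      TopologicalSpace.Opens.mem_iSup.mpr (hcov ν n z)))
  refine IsZariskiLocalAtSource.of_openCover (P := @Etale) 𝒰 fun k => ?_
  obtain ⟨h, hh⟩ := (hV k ν n (V k ν n).ι).1 (by rw [Scheme.Opens.range_ι])
  obtain ⟨l, hl, -⟩ := hn (μ k) (m k)
  have hr : Set.range l ⊆ (V k ν n : Set N) := (hV k ν n l).2 ⟨𝟙 _, isRes_id_res hl⟩
  let l' := IsOpenImmersion.lift (V k ν n).ι l (by rw [Scheme.Opens.range_ι]; exact hr)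
  have hl' : l' ≫ (V k ν n).ι = l := IsOpenImmersion.lift_fac _ _ _
  have h1 : h ≫ l = (V k ν n).ι :=
    (hn _ (n.res (V k ν n).ι rfl)).unique (hl.comp hh) (n.isRes_res _ rfl)
  have h2 : h ≫ l' = 𝟙 _ := (cancel_mono (V k ν n).ι).1 (by rw [Category.assoc, hl', h1, Category.id_comp])
  have h3 : l' ≫ h = 𝟙 _ :=
    huniq k _ (m k) _ _ (hh.comp (isRes_res_of_comp rfl (hl'.symm ▸ hl))) (isRes_id (m k))
  haveI : IsIso h := ⟨l', h2, h3⟩
  haveI := hμ k
  change Etale ((V k ν n).ι ≫ ν)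
  rw [← hh.1]
  infer_instance

end GrothLib.EtDescent21
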