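import Groth.Agent.Lib.EtDescent21.Descend
import Groth.Agent.Lib.EtDescent21.Lift

/-!
# Refinement of étale descent data along universally submersive morphisms
-/

set_option autoImplicit false
set_option backward.isDefEq.respectTransparency false
set_option backward.isDefEq.respectTransparency.types false
set_option linter.style.haveILetI false

universe u

open CategoryTheory CategoryTheory.Limits AlgebraicGeometry Desc

namespace GrothLib.EtDescent21

open GrothLib.SchEffective GrothLib.DDPull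

/-- Morphisms to an unramified scheme agreeing after a surjection agree. -/
theorem eq_of_surjective_comp {T'' T' E X : Scheme.{u}} (r : T'' ⟶ T') [Surjective r] (h : E ⟶ X)
    [LocallyOfFiniteType h] [FormallyUnramified h] {u v : T' ⟶ E} (huv : u ≫ h = v ≫ h) (e : r ≫ u = r ≫ v) :
    u = v := by
  obtain ⟨U, hU⟩ := exists_agreeOpen h u v huv
  have h0 := (hU r).2 e
  rw [Set.range_eq_univ.2 r.surjective] at h0
  have := (hU (𝟙 T')).1 ((Set.subset_univ _).trans h0)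
  simpa using this

/-- Descent of a lift into an étale scheme. -/
theorem existsUnique_descend_lift {T'' T' E X : Scheme.{u}} (π : T'' ⟶ T') (hπ : SGA1.UnivSubmersive π)
    (x : T' ⟶ X) (e : E ⟶ X) [Etale e] (v : T'' ⟶ E) (hv : v ≫ e = π ≫ x)
    (hcoc : pullback.fst π π ≫ v = pullback.snd π π ≫ v) :
    ∃! u : T' ⟶ E, u ≫ e = x ∧ π ≫ u = v := by
  obtain ⟨u, ⟨hu₁, hu₂⟩, huu⟩ := SGA1Sub21.existsUnique_descend_section π hπ (pullback.fst x e)
    (pullback.lift π v hv.symm) (pullback.lift_fst _ _ _) (by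
      apply pullback.hom_ext <;> simp [hcoc, pullback.condition])
  refine ⟨u ≫ pullback.snd x e, ⟨?_, ?_⟩, fun n ⟨hn₁, hn₂⟩ => ?_⟩
  · rw [Category.assoc, ← pullback.condition, ← Category.assoc, hu₁, Category.id_comp]
  · rw [← Category.assoc, hu₂, pullback.lift_snd]
  · rw [← huu (pullback.lift (𝟙 T') n (by rw [Category.id_comp, hn₁])) ⟨pullback.lift_fst _ _ _, ?_⟩,
      pullback.lift_snd]
    apply pullback.hom_ext <;> simp [hn₂]

variable {S X X' : Scheme.{u}} {g : X ⟶ S} {g' : X' ⟶ S} {h : X' ⟶ X} (hw : h ≫ g = g')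

include hw in
lemma refine_w : ∀ _ : PUnit.{u + 1}, h ≫ g = g' ≫ 𝟙 S := fun _ => hw.trans (Category.comp_id g').symm

/-- The datum relative to a refinement. -/
noncomputable abbrev refineDD (D : SchDDFam (fam g)) : SchDDFam (fam g') :=
  pullDDFamObj (α := fun j => j) (p' := fun _ => h) (refine_w hw) D

variable {D : SchDDFam (fam g)}

/-- Restriction of elements to a refinement. -/
noncomputable def refineElt {T : Scheme.{u}} {t : T ⟶ S} (a : Elt D t) : Elt (refineDD hw D) t :=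
  (Elt.castEq (Category.comp_id t).symm a).pull (α := fun j => j) (p' := fun _ => h) (refine_w hw)

include hw in
lemma refine_cond {T' T : Scheme.{u}} {t : T ⟶ S} {y : T' ⟶ X'} {s : T' ⟶ T} (hy : y ≫ g' = s ≫ t) :
    (y ≫ h) ≫ g = s ≫ t := by
  rw [Category.assoc, hw, hy]

theorem refineElt_app_fst {T : Scheme.{u}} {t : T ⟶ S} (a : Elt D t) {T' : Scheme.{u}} {i : PUnit.{u + 1}}
    (y : T' ⟶ X') (s : T' ⟶ T) (hy : y ≫ g' = s ≫ t) :
    ((refineElt hw a).app (i := i) y s hy).1 ≫ pullback.fst (D.obj i).hom h =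
      (a.app (i := i) (y ≫ h) s (refine_cond hw hy)).1 :=
  (Elt.pull_app_fst (α := fun j => j) (p' := fun _ => h) (refine_w hw) (j := i)
    (Elt.castEq (Category.comp_id t).symm a) y s hy).trans
    (Elt.castEq_app _ a _ s _ (refine_cond hw hy))

theorem refineElt_isRes {T M : Scheme.{u}} {t : T ⟶ S} {μ : M ⟶ S} {m : Elt D μ} {a : Elt D t}
    {l : T ⟶ M} (hl : IsRes m l a) : IsRes (refineElt hw m) l (refineElt hw a) :=
  ⟨hl.1, fun T' i y s hy hy' => pullback.hom_ext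
    ((refineElt_app_fst hw m y (s ≫ l) hy').trans
      ((hl.2 (i := i) (y ≫ h) s (refine_cond hw hy) (refine_cond hw hy')).trans (refineElt_app_fst hw a y s hy).symm))
    (((refineElt hw m).app y (s ≫ l) hy').2.trans ((refineElt hw a).app y s hy).2.symm)⟩

variable [Etale (D.obj PUnit.unit).hom] (hg' : SGA1.UnivSubmersive g')

include hg' in
theorem ext_cover {T : Scheme.{u}} {t : T ⟶ S} {T' : Scheme.{u}} (s : T' ⟶ T) {i : PUnit.{u + 1}}
    {u v : T' ⟶ (D.obj i).left} (huv : u ≫ (D.obj i).hom = v ≫ (D.obj i).hom)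
    (e : ∀ ⦃T'' : Scheme.{u}⦄ (r : T'' ⟶ T') (y : T'' ⟶ X'), y ≫ g' = (r ≫ s) ≫ t → r ≫ u = r ≫ v) : u = v := by
  haveI : Etale (D.obj i).hom := ‹Etale (D.obj PUnit.unit).hom›
  haveI : Surjective (pullback.fst (s ≫ t) g') := SGA1Sub21.surjective (MorphismProperty.pullback_fst _ _ hg')
  exact eq_of_surjective_comp (pullback.fst (s ≫ t) g') (D.obj i).hom huv
    (e _ (pullback.snd (s ≫ t) g') (pullback.condition.symm.trans (Category.assoc _ _ _).symm))

include hg' in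
theorem refineElt_bijective {T : Scheme.{u}} (t : T ⟶ S) :
    Function.Bijective (refineElt hw : Elt D t → Elt (refineDD hw D) t) := by
  have hxs : ∀ {T' T'' : Scheme.{u}} (r : T'' ⟶ T') {x : T' ⟶ X} {s : T' ⟶ T},
      x ≫ g = s ≫ t → (r ≫ x) ≫ g = (r ≫ s) ≫ t := fun r x s hx => by
    rw [Category.assoc, hx, Category.assoc]
  refine ⟨fun a a' he => Elt.ext' fun T' i x s hx => ?_, fun b => ?_⟩
  · refine ext_cover hg' (t := t) s ((a.app x s hx).2.trans (a'.app x s hx).2.symm) fun T'' r y hy => ?_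
    have key : (a.app (i := i) (y ≫ h) (r ≫ s) (refine_cond hw hy)).1 =
        (a'.app (i := i) (y ≫ h) (r ≫ s) (refine_cond hw hy)).1 := by
      rw [← refineElt_app_fst hw a y (r ≫ s) hy, ← refineElt_app_fst hw a' y (r ≫ s) hy, he]
    rw [← a.app_natural r x s hx (hxs r hx), ← a'.app_natural r x s hx (hxs r hx),
      ← a.φ_app (i := i) (j := i) (y ≫ h) (r ≫ x) (r ≫ s) (refine_cond hw hy) (hxs r hx)
        ((refine_cond hw hy).trans (hxs r hx).symm),
      ← a'.φ_app (i := i) (j := i) (y ≫ h) (r ≫ x) (r ≫ s) (refine_cond hw hy) (hxs r hx)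
        ((refine_cond hw hy).trans (hxs r hx).symm), Subtype.ext key]
  · let up : ∀ ⦃T' : Scheme.{u}⦄ ⦃i : PUnit.{u + 1}⦄ (y : T' ⟶ X') (s : T' ⟶ T), y ≫ g' = s ≫ t →
        Lifts (D.obj i) (y ≫ h) :=
      fun T' i y s hy => liftsPullbackEquiv (D.obj i) h y (b.app y s hy)
    have upnat : ∀ ⦃T' T'' : Scheme.{u}⦄ (k : T'' ⟶ T') ⦃i : PUnit.{u + 1}⦄ (y : T' ⟶ X') (s : T' ⟶ T)
        (hy : y ≫ g' = s ≫ t) (y₁ : T'' ⟶ X') (s₁ : T'' ⟶ T) (_ : k ≫ y = y₁) (_ : k ≫ s = s₁)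
        (hy₁ : y₁ ≫ g' = s₁ ≫ t), (up (i := i) y₁ s₁ hy₁).1 = k ≫ (up (i := i) y s hy).1 := by
      intro T' T'' k i y s hy y₁ s₁ e₁ e₂ hy₁
      subst e₁ e₂
      exact (congrArg (· ≫ pullback.fst (D.obj i).hom h) (b.app_natural k y s hy hy₁)).trans (Category.assoc _ _ _)
    have upφ : ∀ ⦃T' : Scheme.{u}⦄ ⦃i j : PUnit.{u + 1}⦄ (y y' : T' ⟶ X') (s : T' ⟶ T)
        (hy : y ≫ g' = s ≫ t) (hy' : y' ≫ g' = s ≫ t) (hh : (y ≫ h) ≫ g = (y' ≫ h) ≫ g),
        D.φ (i := i) (j := j) (y ≫ h) (y' ≫ h) hh (up y s hy) = up y' s hy' := fun T' i j y y' s hy hy' hh => by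
      have := congrArg (liftsPullbackEquiv (D.obj j) h y') (b.φ_app (i := i) (j := j) y y' s hy hy' (hy.trans hy'.symm))
      dsimp only [refineDD, pullDDFamObj] at this
      simp only [Equiv.trans_apply, Equiv.apply_symm_apply] at this
      exact this
    have ex : ∀ (T' : Scheme.{u}) (i : PUnit.{u + 1}) (x : T' ⟶ X) (s : T' ⟶ T) (_ : x ≫ g = s ≫ t),
        ∃ c : Lifts (D.obj i) x, ∀ ⦃T'' : Scheme.{u}⦄ (r : T'' ⟶ T') (y : T'' ⟶ X')
          (hy : y ≫ g' = (r ≫ s) ≫ t) (hh : (y ≫ h) ≫ g = (r ≫ x) ≫ g),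
          r ≫ c.1 = (D.φ (i := i) (j := i) (y ≫ h) (r ≫ x) hh (up y (r ≫ s) hy)).1 := by
      intro T' i x s hx
      haveI : Etale (D.obj i).hom := ‹Etale (D.obj PUnit.unit).hom›
      let π := pullback.fst (s ≫ t) g'
      let y₀ := pullback.snd (s ≫ t) g'
      have hy₀ : y₀ ≫ g' = (π ≫ s) ≫ t := pullback.condition.symm.trans (Category.assoc _ _ _).symm
      have hh₀ : (y₀ ≫ h) ≫ g = (π ≫ x) ≫ g := (refine_cond hw hy₀).trans (hxs π hx).symm
      let v := D.φ (i := i) (j := i) (y₀ ≫ h) (π ≫ x) hh₀ (up y₀ (π ≫ s) hy₀)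
      have hnat : ∀ {T'' : Scheme.{u}} (l : T'' ⟶ pullback (s ≫ t) g') (r : T'' ⟶ T') (y : T'' ⟶ X')
          (_ : l ≫ π = r) (_ : l ≫ y₀ = y) (hy : y ≫ g' = (r ≫ s) ≫ t) (hh : (y ≫ h) ≫ g = (r ≫ x) ≫ g),
          (D.φ (i := i) (j := i) (y ≫ h) (r ≫ x) hh (up y (r ≫ s) hy)).1 = l ≫ v.1 := by
        intro T'' l r y e₁ e₂ hy hh
        refine D.φ_natural l (y₀ ≫ h) (π ≫ x) hh₀ (y ≫ h) (r ≫ x) ?_ ?_ hh _ _
          (upnat l y₀ (π ≫ s) hy₀ y (r ≫ s) e₂ ?_ hy)
        · rw [← Category.assoc, e₂]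
        · rw [← Category.assoc, e₁]
        · rw [← Category.assoc, e₁]
      have hcoc : pullback.fst π π ≫ v.1 = pullback.snd π π ≫ v.1 := by
        have e : pullback.fst π π ≫ π = pullback.snd π π ≫ π := pullback.condition
        have hr : ∀ k : pullback π π ⟶ pullback (s ≫ t) g', k ≫ π = pullback.fst π π ≫ π →
            (k ≫ y₀) ≫ g' = ((pullback.fst π π ≫ π) ≫ s) ≫ t := fun k hk => by
          rw [← hk, Category.assoc k, hy₀]; simp only [Category.assoc]
        have hh : ∀ k : pullback π π ⟶ pullback (s ≫ t) g', k ≫ π = pullback.fst π π ≫ π →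
            ((k ≫ y₀) ≫ h) ≫ g = ((pullback.fst π π ≫ π) ≫ x) ≫ g := fun k hk =>
          (refine_cond hw (hr k hk)).trans (hxs _ hx).symm
        rw [← hnat (pullback.fst π π) _ _ rfl rfl (hr _ rfl) (hh _ rfl),
          ← hnat (pullback.snd π π) _ _ e.symm rfl (hr _ e.symm) (hh _ e.symm),
          ← upφ (i := i) (j := i) (pullback.fst π π ≫ y₀) (pullback.snd π π ≫ y₀) _ (hr _ rfl) (hr _ e.symm)
            ((hh _ rfl).trans (hh _ e.symm).symm), D.φ_comp]
      obtain ⟨c, ⟨hc₁, hc₂⟩, -⟩ := existsUnique_descend_lift π (MorphismProperty.pullback_fst _ _ hg') x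
        (D.obj i).hom v.1 v.2 hcoc
      refine ⟨⟨c, hc₁⟩, fun T'' r y hy hh => ?_⟩
      let l := pullback.lift r y ((Category.assoc _ _ _).symm.trans hy.symm)
      rw [hnat l r y (pullback.lift_fst _ _ _) (pullback.lift_snd _ _ _) hy hh, ← hc₂, ← Category.assoc]
      exact (congrArg (· ≫ c) (pullback.lift_fst _ _ _)).symm
    choose v hv using ex
    refine ⟨Elt.ofFun (fun T' i x s hx => v T' i x s hx) ?_ ?_, Elt.ext' fun T' i x s hx => ?_⟩
    · intro T' T'' k i x s hx x' s' ex es hx'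
      subst ex es
      refine ext_cover hg' (t := t) (k ≫ s) ((v _ i _ _ hx').2.trans ?_) fun T₃ r y hy => ?_
      · rw [Category.assoc, (v T' i x s hx).2]
      have hy2 : y ≫ g' = ((r ≫ k) ≫ s) ≫ t := by rw [hy, Category.assoc r k s]
      rw [hv _ _ _ _ hx' r y hy ((refine_cond hw hy).trans (hxs r hx').symm), ← Category.assoc r k (v T' i x s hx).1,
        hv _ _ _ _ hx (r ≫ k) y hy2 ((refine_cond hw hy2).trans (hxs (r ≫ k) hx).symm)]
      refine SchEffective.φ_congr D rfl (Category.assoc _ _ _).symm _ _ ?_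
      exact congrArg (· ≫ pullback.fst (D.obj i).hom h) (b.app_congr rfl (Category.assoc _ _ _).symm _ _)
    · intro T' i i' x x' s hx hx'
      refine ext_cover hg' (t := t) s ((D.φ x x' _ _).2.trans (v _ i' _ _ hx').2.symm) fun T₃ r y hy => ?_
      have e := (hxs r hx).trans (hxs r hx').symm
      rw [hv _ _ _ _ hx' r y hy ((refine_cond hw hy).trans (hxs r hx').symm),
        ← D.φ_natural r x x' _ (r ≫ x) (r ≫ x') rfl rfl e (v T' i x s hx)
          (D.φ (y ≫ h) (r ≫ x) ((refine_cond hw hy).trans (hxs r hx).symm) (up y (r ≫ s) hy))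
          (hv _ _ _ _ hx r y hy _).symm, D.φ_comp]
    · refine pullback.hom_ext ?_ (((refineElt hw (Elt.ofFun _ _ _)).app x s hx).2.trans (b.app x s hx).2.symm)
      rw [refineElt_app_fst, Elt.ofFun_app]
      have h1 : x ≫ g' = (𝟙 T' ≫ s) ≫ t := by rw [Category.id_comp]; exact hx
      refine ((Category.id_comp _).symm.trans (hv _ i _ _ (refine_cond hw hx) (𝟙 T') x h1
        (by rw [Category.id_comp]))).trans ?_
      refine (SchEffective.φ_congr D rfl (Category.id_comp _) _ rfl (q := up x (𝟙 T' ≫ s) h1) rfl).trans ?_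
      rw [D.φ_self]
      exact congrArg (· ≫ pullback.fst (D.obj i).hom h) (b.app_congr rfl (Category.id_comp s) _ _)

include hg' in
theorem refineElt_isRes_iff {T M : Scheme.{u}} {t : T ⟶ S} {μ : M ⟶ S} {m : Elt D μ} {a : Elt D t}
    {l : T ⟶ M} (hl : l ≫ μ = t) : IsRes (refineElt hw m) l (refineElt hw a) ↔ IsRes m l a := by
  refine ⟨fun h => ?_, refineElt_isRes hw⟩
  have h1 := refineElt_isRes hw (m.isRes_res l hl)
  have := (refineElt_bijective hw hg' t).1 (h.eq.trans h1.eq.symm)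
  exact this ▸ m.isRes_res l hl

include hg' in
theorem uni_refine_iff {S₁ : Scheme.{u}} {q : S₁ ⟶ S} {N : Scheme.{u}} (ν : N ⟶ S₁) (n : Elt D (ν ≫ q)) :
    Uni (refineDD hw D) q ν (refineElt hw n) ↔ Uni D q ν n := by
  have hc : ∀ {T : Scheme.{u}} {t : T ⟶ S₁} {j : T ⟶ N}, j ≫ ν = t → j ≫ ν ≫ q = t ≫ q := fun h => by
    rw [← Category.assoc, h]
  constructor
  · intro hn T t a
    obtain ⟨j, hj, hu⟩ := hn t (refineElt hw a)
    exact ⟨j, ⟨hj.1, (refineElt_isRes_iff hw hg' (hc hj.1)).1 hj.2⟩,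
      fun j' hj' => hu j' ⟨hj'.1, refineElt_isRes hw hj'.2⟩⟩
  · intro hn T t b
    obtain ⟨a, rfl⟩ := (refineElt_bijective hw hg' (D := D) (t ≫ q)).2 b
    obtain ⟨j, hj, hu⟩ := hn t a
    exact ⟨j, ⟨hj.1, refineElt_isRes hw hj.2⟩,
      fun j' hj' => hu j' ⟨hj'.1, (refineElt_isRes_iff hw hg' (hc hj'.1)).1 hj'.2⟩⟩

include hg' in
theorem etRep_refine_iff {S₁ : Scheme.{u}} {q : S₁ ⟶ S} : EtRep (refineDD hw D) q ↔ EtRep D q := by
  constructor
  · rintro ⟨N, ν, m, hν, hm⟩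
    obtain ⟨n, rfl⟩ := (refineElt_bijective hw hg' (D := D) (ν ≫ q)).2 m
    exact ⟨N, ν, n, hν, (uni_refine_iff hw hg' ν n).1 hm⟩
  · rintro ⟨N, ν, n, hν, hn⟩
    exact ⟨N, ν, _, hν, (uni_refine_iff hw hg' ν n).2 hn⟩

end GrothLib.EtDescent21
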