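import Groth.Agent.Lib.EtDescent21.UniversallyClosed
import Groth.Agent.Lib.EtDescent21.RefineSubmersive
import Groth.Agent.Lib.AlgSp.SourceDescent
import Groth.Agent.Lib.SubtrLim.Submersive

/-!
# Effectivity of étale descent data along quasi-finite universally submersive morphisms
-/

set_option autoImplicit false
set_option backward.isDefEq.respectTransparency false
set_option backward.isDefEq.respectTransparency.types false
set_option linter.style.haveILetI false

universe u

open CategoryTheory CategoryTheory.Limits AlgebraicGeometry Desc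

namespace GrothLib.EtDescent21

open GrothLib.SchEffective GrothLib.DDPull

theorem univSubmersive_of_universallyOpen {X S : Scheme.{u}} (g : X ⟶ S) [UniversallyOpen g] [Surjective g] :
    SGA1.UnivSubmersive g := fun _ _ _ _ g' h => by
  haveI : UniversallyOpen g' := MorphismProperty.of_isPullback h.flip ‹UniversallyOpen g›
  haveI : Surjective g' := MorphismProperty.of_isPullback h.flip ‹Surjective g›
  exact g'.isOpenMap.isQuotientMap g'.continuous g'.surjective

theorem univSubmersive_comp {X Y Z : Scheme.{u}} {f : X ⟶ Y} {g : Y ⟶ Z} (hf : SGA1.UnivSubmersive f)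
    (hg : SGA1.UnivSubmersive g) : SGA1.UnivSubmersive (f ≫ g) := by
  haveI : (AlgebraicGeometry.topologically fun f => Topology.IsQuotientMap f).IsStableUnderComposition :=
    ⟨fun a b ha hb => by
      change Topology.IsQuotientMap (a ≫ b)
      rw [Scheme.Hom.comp_base, TopCat.coe_comp]
      exact hb.comp ha⟩
  exact MorphismProperty.comp_mem (MorphismProperty.universally _) f g hf hg

/-- The finite part of a universally submersive morphism to a local scheme is surjective. -/
theorem surjective_finitePart {A : Type u} [CommRing A] [IsLocalRing A] [IsNoetherianRing A] {X : Scheme.{u}}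
    (g : X ⟶ Spec (CommRingCat.of A)) (hg : SGA1.UnivSubmersive g) (W : X.Opens)
    (hW : ∀ x : X, g x = IsLocalRing.closedPoint A → x ∈ W) :
    Surjective (W.ι ≫ g) := by
  refine ⟨fun p => ?_⟩
  have hp : p ⤳ (IsLocalRing.closedPoint A : Spec (CommRingCat.of A)) :=
    (PrimeSpectrum.le_iff_specializes (R := A) p (IsLocalRing.closedPoint A)).1
      (IsLocalRing.le_maximalIdeal (show PrimeSpectrum A from p).isPrime.ne_top)
  obtain ⟨R, _, _, _, q, hgen, hcl⟩ := SubtrLim.exists_dvr_map hp
  obtain ⟨x, x', hxx, hx, hx'⟩ := SubtrLim.dvrPair_of_univSubmersive hg R q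
  have hxW : pullback.fst g q x ∈ W := hW _ (by
    rw [← Scheme.Hom.comp_apply, pullback.condition, Scheme.Hom.comp_apply, hx, hcl])
  have hx'W : pullback.fst g q x' ∈ W := (hxx.map (pullback.fst g q).continuous).mem_open W.2 hxW
  refine ⟨⟨_, hx'W⟩, ?_⟩
  change g (pullback.fst g q x') = p
  rw [← Scheme.Hom.comp_apply, pullback.condition, Scheme.Hom.comp_apply, hx', hgen]

/-- The datum is effective over a complete noetherian strictly henselian ring. -/
theorem etRep_id_local {A : Type u} [CommRing A] [IsNoetherianRing A] [HenselianLocalRing A]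
    {X : Scheme.{u}} (g : X ⟶ Spec (CommRingCat.of A)) (hg : SGA1.UnivSubmersive g)
    [LocallyOfFinitePresentation g] [QuasiCompact g] [LocallyQuasiFinite g]
    (D : SchDDFam (fam g)) [Etale (obj₀ D).hom] [IsSeparated (obj₀ D).hom] [QuasiCompact (obj₀ D).hom] :
    EtRep D (𝟙 (Spec (CommRingCat.of A))) := by
  haveI : CompactSpace X := QuasiCompact.compactSpace_of_compactSpace g
  obtain ⟨X', h, _, _, hs⟩ := AlgSp.exists_affine_etale_cover (𝟙 X)
  rw [Category.comp_id] at hs
  haveI := hs
  haveI : IsSeparated (h ≫ g) := inferInstance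
  haveI : LocallyQuasiFinite h := EtBasicB.locallyQuasiFinite_of_unramified h
  haveI : UniversallyOpen h := inferInstance
  haveI : QuasiCompact (h ≫ g) := inferInstance
  have hg₂ : SGA1.UnivSubmersive (h ≫ g) := univSubmersive_comp (univSubmersive_of_universallyOpen h) hg
  obtain ⟨W, ⟨-, hWf, hW⟩, -⟩ := EtLocal.existsUnique_isFinitePart (h ≫ g)
  let h₃ := W.ι ≫ h
  let g₃ := h₃ ≫ g
  have e₃ : g₃ = W.ι ≫ h ≫ g := Category.assoc _ _ _
  haveI : IsFinite g₃ := e₃ ▸ hWf
  haveI : Surjective g₃ := e₃ ▸ surjective_finitePart (h ≫ g) hg₂ W hW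
  haveI : LocallyOfFinitePresentation g₃ := e₃ ▸ inferInstance
  let D₃ := refineDD (rfl : h₃ ≫ g = g₃) D
  haveI : Etale (obj₀ D₃).hom := inferInstanceAs (Etale (pullback.snd (obj₀ D).hom h₃))
  haveI : IsSeparated (obj₀ D₃).hom := inferInstanceAs (IsSeparated (pullback.snd (obj₀ D).hom h₃))
  haveI : QuasiCompact (obj₀ D₃).hom := inferInstanceAs (QuasiCompact (pullback.snd (obj₀ D).hom h₃))
  have hg₃ := univSubmersive_of_universallyClosed g₃
  have h3 : EtSRep D₃ (𝟙 _) := (effEtS_iff_etSRep_id hg₃).1
    (effEtS_of_universallyClosed D₃ fun B _ _ q σ₀ h₀ => exists_lift_of_etale (pullback.snd g₃ q) _ σ₀ h₀)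
  exact (etRep_refine_iff (rfl : h₃ ≫ g = g₃) hg₃).1 h3.etRep

theorem effEtS_of_quasiFinite {S X : Scheme.{u}} {g : X ⟶ S} (hg : SGA1.UnivSubmersive g)
    [IsLocallyNoetherian S] [LocallyOfFiniteType g] [QuasiCompact g] [LocallyQuasiFinite g]
    (D : SchDDFam (fam g)) [Etale (obj₀ D).hom] [IsSeparated (obj₀ D).hom] [QuasiCompact (obj₀ D).hom] :
    EffEtS D := by
  haveI : LocallyOfFinitePresentation g := inferInstance
  haveI : IsLocallyNoetherian X := LocallyOfFiniteType.isLocallyNoetherian g
  haveI : QuasiSeparated g := inferInstance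
  haveI := SGA1Sub21.surjective hg
  refine (effEtS_iff_etSRep_id hg).2 (etSRep_of_etRep hg ?_)
  obtain ⟨G, hG, hGrep⟩ := exists_open_goodSet (D := D) hg
  have hu : ∀ a : S, a ∈ G := fun a => by
    refine show a ∈ (G : Set S) from hG.symm ▸ (show EtRep D (S.fromSpecStalk a) from ?_)
    obtain ⟨A, _, _, _, _, _, φ, hF, hL⟩ := exists_complete_algClosed (S.presheaf.stalk a)
    obtain ⟨h₁, h₂, h₃⟩ := spec_map_flat_surjective φ hF
    haveI := h₁; haveI := h₂; haveI := h₃
    haveI : HenselianRing A (IsLocalRing.maximalIdeal A) := inferInstance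
    haveI : HenselianLocalRing A := HenselianLocalRing.mk fun f hf a₀ h₁ h₂ =>
      HenselianRing.is_henselian (I := IsLocalRing.maximalIdeal A) f hf a₀ h₁ (h₂.map _)
    let r := Spec.map (CommRingCat.ofHom φ)
    let q := r ≫ S.fromSpecStalk a
    have sq : IsPullback (pullback.fst g q) (pullback.snd g q) g q := IsPullback.of_hasPullback g q
    haveI : Etale (obj₀ (pullCart sq D)).hom :=
      inferInstanceAs (Etale (pullback.snd (obj₀ D).hom (pullback.fst g q)))
    haveI : IsSeparated (obj₀ (pullCart sq D)).hom :=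
      inferInstanceAs (IsSeparated (pullback.snd (obj₀ D).hom (pullback.fst g q)))
    haveI : QuasiCompact (obj₀ (pullCart sq D)).hom :=
      inferInstanceAs (QuasiCompact (pullback.snd (obj₀ D).hom (pullback.fst g q)))
    haveI : LocallyQuasiFinite (pullback.snd g q) := MorphismProperty.pullback_snd _ _ ‹LocallyQuasiFinite g›
    have h := (etRep_trans_iff sq (Category.id_comp q)).1
      (etRep_id_local (pullback.snd g q) (MorphismProperty.of_isPullback sq hg) (pullCart sq D))
    exact (etSRep_of_fpqc' r (etSRep_of_etRep hg h)).etRep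
  refine etRep_of_openCover (fun _ : PUnit.{u + 1} => G)
    (TopologicalSpace.IsOpenCover.mk (eq_top_iff.2 fun z _ => TopologicalSpace.Opens.mem_iSup.2
      ⟨PUnit.unit, hu z⟩)) fun _ => ?_
  rw [Category.comp_id]
  exact hGrep

end GrothLib.EtDescent21
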