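import Mathlib.AlgebraicGeometry.AffineScheme
import Mathlib.AlgebraicGeometry.Morphisms.Affine
import Mathlib.AlgebraicGeometry.Stalk
import Mathlib.CategoryTheory.Limits.Final
import Mathlib.CategoryTheory.Filtered.Final
import Mathlib.Topology.Sheaves.Stalks

/-!
# The spectrum of a local ring as the limit of the affine neighbourhoods
-/

set_option autoImplicit false
set_option backward.isDefEq.respectTransparency false

universe u

open CategoryTheory CategoryTheory.Limits AlgebraicGeometry Opposite TopologicalSpace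

noncomputable section

namespace GrothLib.EtDescent21

variable {S : Scheme.{u}}

/-- Affine open neighbourhoods of a point. -/
def AffNhd (a : S) : Type u := {W : S.Opens // IsAffineOpen W ∧ a ∈ W}

variable {a : S}

instance : Preorder (AffNhd a) := Preorder.lift Subtype.val

theorem AffNhd.exists_le (U : S.Opens) (hU : a ∈ U) : ∃ W : AffNhd a, W.1 ≤ U := by
  obtain ⟨W, hW, haW, hWU⟩ := exists_isAffineOpen_mem_and_subset hU
  exact ⟨⟨W, hW, haW⟩, hWU⟩

instance : Nonempty (AffNhd a) := ⟨(AffNhd.exists_le (⊤ : S.Opens) trivial).choose⟩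

instance : IsCofiltered (AffNhd a) where
  cone_objs U V := by
    obtain ⟨W, hW⟩ := AffNhd.exists_le (U.1 ⊓ V.1) ⟨U.2.2, V.2.2⟩
    exact ⟨W, homOfLE (show W.1 ≤ U.1 from hW.trans inf_le_left),
      homOfLE (show W.1 ≤ V.1 from hW.trans inf_le_right), trivial⟩
  cone_maps {U V} f g := ⟨U, 𝟙 _, Subsingleton.elim _ _⟩

/-- The neighbourhood as an object of the category of open neighbourhoods. -/
def nhdIncl (a : S) : AffNhd a ⥤ OpenNhds a where
  obj W := ⟨W.1, W.2.2⟩
  map f := homOfLE f.le

instance : (nhdIncl a).Initial := by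
  apply Functor.initial_of_exists_of_isCofiltered
  · intro U
    obtain ⟨W, hW⟩ := AffNhd.exists_le U.1 U.2
    exact ⟨W, ⟨homOfLE hW⟩⟩
  · intro U W s s'
    exact ⟨W, 𝟙 W, Subsingleton.elim _ _⟩

/-- The diagram of affine neighbourhoods. -/
def nhdDiag (a : S) : AffNhd a ⥤ Scheme.{u} where
  obj W := W.1
  map f := S.homOfLE f.le
  map_id W := by simp
  map_comp f g := by simp

instance (W : AffNhd a) : IsAffine ((nhdDiag a).obj W) := W.2.1

instance (V W : AffNhd a) (f : V ⟶ W) : IsAffineHom ((nhdDiag a).map f) := isAffineHom_of_isAffine _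

theorem nhdDiag_map_ι {V W : AffNhd a} (f : V ⟶ W) : (nhdDiag a).map f ≫ W.1.ι = V.1.ι :=
  S.homOfLE_ι (show V.1 ≤ W.1 from f.le)

/-- The cone from the spectrum of the local ring. -/
def nhdCone (a : S) : Cone (nhdDiag a) where
  pt := Spec (S.presheaf.stalk a)
  π :=
    { app := fun W => W.1.fromSpecStalkOfMem a W.2.2
      naturality := fun V W f => by
        refine (Category.id_comp _).trans ?_
        rw [← cancel_mono W.1.ι, Category.assoc, nhdDiag_map_ι, Scheme.Opens.fromSpecStalkOfMem_ι,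
          Scheme.Opens.fromSpecStalkOfMem_ι] }

theorem nhdCone_ι (W : AffNhd a) : (nhdCone a).π.app W ≫ W.1.ι = S.fromSpecStalk a :=
  Scheme.Opens.fromSpecStalkOfMem_ι _ _ _

/-- The spectrum of the local ring is the limit of the affine neighbourhoods. -/
def isLimitNhdCone (a : S) : IsLimit (nhdCone a) := by
  let F := (nhdIncl a).op ⋙ (OpenNhds.inclusion a).op ⋙ S.presheaf
  let c₀ : Cocone ((OpenNhds.inclusion a).op ⋙ S.presheaf) := colimit.cocone _
  let hc₀ : IsColimit (c₀.whisker (nhdIncl a).op) :=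
    (Functor.Final.isColimitWhiskerEquiv (nhdIncl a).op c₀).symm (colimit.isColimit _)
  let hL : IsLimit (Scheme.Spec.mapCone (c₀.whisker (nhdIncl a).op).op) :=
    isLimitOfPreserves Scheme.Spec hc₀.op
  let α : F.op ⋙ Scheme.Spec ≅ (opOpEquivalence (AffNhd a)).functor ⋙ nhdDiag a :=
    NatIso.ofComponents (fun W => (W.unop.unop.2.1.isoSpec.symm : Spec _ ≅ _)) fun {V W} f => by
      rw [← cancel_mono (W.unop.unop.1.ι)]
      change (Spec.map _ ≫ _) ≫ W.unop.unop.1.ι = (_ ≫ (nhdDiag a).map f.unop.unop) ≫ W.unop.unop.1.ι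
      rw [Category.assoc, Category.assoc, nhdDiag_map_ι]
      simp only [Iso.symm_hom, IsAffineOpen.isoSpec_inv_ι]
      exact IsAffineOpen.map_fromSpec W.unop.unop.2.1 V.unop.unop.2.1
        ((nhdIncl a ⋙ OpenNhds.inclusion a).map f.unop.unop).op
  let hL' : IsLimit ((Cone.postcompose α.hom).obj (Scheme.Spec.mapCone (c₀.whisker (nhdIncl a).op).op)) :=
    (IsLimit.postcomposeHomEquiv α _).symm hL
  let d : Cone ((opOpEquivalence (AffNhd a)).functor ⋙ nhdDiag a) := (nhdCone a).whisker _
  have hd : IsLimit d := IsLimit.ofIsoLimit hL' (Cone.ext (Iso.refl _) fun W => by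
    rw [← cancel_mono (W.unop.unop.1.ι)]
    change (Spec.map (c₀.ι.app _) ≫ _) ≫ _ = (𝟙 _ ≫ _) ≫ _
    rw [Category.assoc, Category.id_comp]
    simp only [α, NatIso.ofComponents_hom_app, Iso.symm_hom, IsAffineOpen.isoSpec_inv_ι]
    refine Eq.trans ?_ (nhdCone_ι W.unop.unop).symm
    exact (W.unop.unop.2.1.fromSpecStalk_eq_fromSpecStalk W.unop.unop.2.2))
  exact (Functor.Initial.isLimitWhiskerEquiv (opOpEquivalence (AffNhd a)).functor (nhdCone a)) hd

end GrothLib.EtDescent21
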