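import Groth.Agent.Lib.EtDescent21.IsPullback
import Groth.Agent.Lib.EtDescent21.StalkLimit
import Groth.Agent.Lib.EtDescent21.Zariski
import Groth.Agent.Lib.LimDescend.Property
import Groth.Agent.Lib.LimDescend.Hom
import Groth.Agent.Lib.LimSmooth.Affine
import Groth.Agent.Lib.LimDesc.Local

/-!
# Étale representability spreads out from the local ring
-/

set_option autoImplicit false
set_option backward.isDefEq.respectTransparency false
set_option backward.isDefEq.respectTransparency.types false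

universe u

open CategoryTheory CategoryTheory.Limits AlgebraicGeometry Desc

namespace GrothLib.EtDescent21

open GrothLib.SchEffective GrothLib.DDPull GrothLib.LimDesc

theorem compactSpace_of_surjective {A B : Scheme.{u}} (s : A ⟶ B) [Surjective s] [CompactSpace A] :
    CompactSpace B :=
  s.surjective.compactSpace s.continuous

theorem quasiSeparatedSpace_of_surjective {A B : Scheme.{u}} (s : A ⟶ B) [Surjective s] [QuasiCompact s]
    [QuasiSeparatedSpace A] : QuasiSeparatedSpace B := by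
  refine ⟨fun U V hU hU' hV hV' => ?_⟩
  have := (QuasiSeparatedSpace.inter_isCompact _ _ (hU.preimage s.continuous)
    (QuasiCompact.isCompact_preimage (f := s) U hU hU') (hV.preimage s.continuous)
    (QuasiCompact.isCompact_preimage (f := s) V hV hV')).image s.continuous
  rwa [← Set.preimage_inter, Set.image_preimage_eq _ s.surjective] at this

variable {S : Scheme.{u}} {a : S}

/-- Two morphisms which agree over the local ring agree over a neighbourhood. -/
theorem exists_nhd_eq {W : AffNhd a} {Z Y : Scheme.{u}} (z : Z ⟶ (nhdDiag a).obj W) [CompactSpace Z]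
    (y : Y ⟶ S) [LocallyOfFiniteType y] (u v : Z ⟶ Y) (hu : u ≫ y = z ≫ W.1.ι) (hv : v ≫ y = z ≫ W.1.ι)
    {P : Scheme.{u}} {q : P ⟶ Z} {p : P ⟶ (nhdCone a).pt} (hP : IsPullback q p z ((nhdCone a).π.app W))
    (heq : q ≫ u = q ≫ v) :
    ∃ (V : AffNhd a) (f : V ⟶ W), ∀ {Z' : Scheme.{u}} (k : Z' ⟶ Z) (l : Z' ⟶ (nhdDiag a).obj V),
      k ≫ z = l ≫ (nhdDiag a).map f → k ≫ u = k ≫ v := by
  let t : diag (nhdDiag a) W z ⟶ (Functor.const (Over W)).obj S :=
    toBase (nhdDiag a) z ≫ (Functor.const (Over W)).map W.1.ι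
  let top : Over W := Over.mk (𝟙 W)
  haveI (j : Over W) : CompactSpace ↥((diag (nhdDiag a) W z).obj j) := compactSpace_obj _ W z j
  haveI (j k : Over W) (φ : j ⟶ k) : IsAffineHom ((diag (nhdDiag a) W z).map φ) := isAffineHom_map _ W z φ
  obtain ⟨l₀, φ, h⟩ := Scheme.exists_hom_comp_eq_comp_of_locallyOfFiniteType
    (diag (nhdDiag a) W z) t y (cone (nhdDiag a) W z hP) (isLimitCone _ W z hP (isLimitNhdCone a))
    (i := top) (pullback.fst _ _ ≫ u) (pullback.fst _ _ ≫ v)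
    (by rw [Category.assoc, hu]; exact Category.assoc _ _ _)
    (by rw [Category.assoc, hv]; exact Category.assoc _ _ _)
    (by rw [π_fst_assoc, π_fst_assoc, heq])
  refine ⟨l₀.left, l₀.hom, fun k l hkl => ?_⟩
  have e := congrArg (pullback.lift k l hkl ≫ ·) h
  simp only [← Category.assoc] at e
  rw [Category.assoc (pullback.lift k l hkl), map_fst, pullback.lift_fst] at e
  exact e

variable {X : Scheme.{u}} {g : X ⟶ S} (D : SchDDFam (fam g))

/-- The underlying scheme of the datum. -/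
abbrev obj₀ : Over X := D.obj PUnit.unit

variable {D} {N₀ : Scheme.{u}} (ν₀ : N₀ ⟶ (nhdCone a).pt) (n : Elt D (ν₀ ≫ S.fromSpecStalk a))

theorem lim_w {W : AffNhd a} {N : Scheme.{u}} {ν : N ⟶ (nhdDiag a).obj W} {m : N₀ ⟶ N}
    (h : m ≫ ν = ν₀ ≫ (nhdCone a).π.app W) : m ≫ ν ≫ W.1.ι = ν₀ ≫ S.fromSpecStalk a := by
  rw [← Category.assoc, h, Category.assoc, nhdCone_ι]

/-- The map between base changes of `g` along a morphism over `S`. -/
noncomputable def mz {N N' : Scheme.{u}} {t : N ⟶ S} {t' : N' ⟶ S} (m : N' ⟶ N) (h : m ≫ t = t') :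
    pullback g t' ⟶ pullback g t :=
  pullback.lift (pullback.fst g t') (pullback.snd g t' ≫ m) (by rw [Category.assoc, h]; exact pullback.condition)

@[simp, reassoc]
theorem mz_fst {N N' : Scheme.{u}} {t : N ⟶ S} {t' : N' ⟶ S} (m : N' ⟶ N) (h : m ≫ t = t') :
    mz (g := g) m h ≫ pullback.fst g t = pullback.fst g t' :=
  pullback.lift_fst _ _ _

@[simp, reassoc]
theorem mz_snd {N N' : Scheme.{u}} {t : N ⟶ S} {t' : N' ⟶ S} (m : N' ⟶ N) (h : m ≫ t = t') :
    mz (g := g) m h ≫ pullback.snd g t = pullback.snd g t' ≫ m :=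
  pullback.lift_snd _ _ _

theorem mz_trans {N N' N'' : Scheme.{u}} {t : N ⟶ S} {t' : N' ⟶ S} {t'' : N'' ⟶ S} (m : N' ⟶ N)
    (h : m ≫ t = t') (m' : N'' ⟶ N') (h' : m' ≫ t' = t'') (m'' : N'' ⟶ N) (h'' : m'' ≫ t = t'')
    (e : m' ≫ m = m'') : mz (g := g) m' h' ≫ mz m h = mz m'' h'' := by
  apply pullback.hom_ext
  · rw [Category.assoc, mz_fst, mz_fst, mz_fst]
  · rw [Category.assoc, mz_snd, mz_snd_assoc, e, mz_snd]

theorem isPullback_mz {N N' : Scheme.{u}} {t : N ⟶ S} {t' : N' ⟶ S} (m : N' ⟶ N) (h : m ≫ t = t') :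
    IsPullback (mz (g := g) m h) (pullback.snd g t') (pullback.snd g t) m := by
  subst h
  refine IsPullback.of_right ?_ (mz_snd _ _) (IsPullback.of_hasPullback g t)
  rw [mz_fst]
  exact IsPullback.of_hasPullback _ _

theorem isPullback_mz_comp {B B' N N' : Scheme.{u}} {t : N ⟶ S} {t' : N' ⟶ S} {ν : N ⟶ B} {ν' : N' ⟶ B'}
    {f : B' ⟶ B} {m : N' ⟶ N} (h : m ≫ t = t') (sq : IsPullback m ν' ν f) :
    IsPullback (mz (g := g) m h) (pullback.snd g t' ≫ ν') (pullback.snd g t ≫ ν) f :=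
  (isPullback_mz m h).paste_vert sq

/-- A model over a neighbourhood of the representing object, with the map to the datum. -/
structure Mdl (W : AffNhd a) where
  N : Scheme.{u}
  ν : N ⟶ (nhdDiag a).obj W
  et : Etale ν
  qc : QuasiCompact ν
  qs : QuasiSeparated ν
  m : N₀ ⟶ N
  sq : IsPullback m ν₀ ν ((nhdCone a).π.app W)
  θ : pullback g (ν ≫ W.1.ι) ⟶ (obj₀ D).left
  cart : IsPullback θ (pullback.snd g (ν ≫ W.1.ι) ≫ ν) ((obj₀ D).hom ≫ g) W.1.ι
  compat : mz (g := g) m (lim_w ν₀ sq.w) ≫ θ = n.a PUnit.unit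

theorem restr_w {V W : AffNhd a} (f : V ⟶ W) {N : Scheme.{u}} (ν : N ⟶ (nhdDiag a).obj W) :
    pullback.fst ν ((nhdDiag a).map f) ≫ ν ≫ W.1.ι = pullback.snd ν ((nhdDiag a).map f) ≫ V.1.ι := by
  rw [pullback.condition_assoc, nhdDiag_map_ι]

variable {ν₀} {n}

/-- Restriction of a model to a smaller neighbourhood. -/
noncomputable def Mdl.restrict {W : AffNhd a} (M : Mdl ν₀ n W) {V : AffNhd a} (f : V ⟶ W) : Mdl ν₀ n V where
  N := pullback M.ν ((nhdDiag a).map f)
  ν := pullback.snd _ _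
  et := haveI := M.et; inferInstance
  qc := haveI := M.qc; inferInstance
  qs := haveI := M.qs; inferInstance
  m := pullback.lift M.m (ν₀ ≫ (nhdCone a).π.app V)
    (by rw [Category.assoc, (nhdCone a).w f]; exact M.sq.w)
  sq := by
    refine IsPullback.of_right ?_ (pullback.lift_snd _ _ _) (IsPullback.of_hasPullback _ _)
    rw [pullback.lift_fst, (nhdCone a).w f]
    exact M.sq
  θ := mz (pullback.fst _ _) (restr_w f M.ν) ≫ M.θ
  cart := by
    have h := (isPullback_mz_comp (g := g) (restr_w f M.ν) (IsPullback.of_hasPullback M.ν ((nhdDiag a).map f))).paste_horiz M.cart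
    rwa [nhdDiag_map_ι] at h
  compat := by
    rw [← M.compat, ← Category.assoc]
    exact congrArg (· ≫ M.θ) (mz_trans _ _ _ _ _ _ (pullback.lift_fst _ _ _))

variable [LocallyOfFinitePresentation g] [QuasiCompact g] [QuasiSeparated g] [Etale (obj₀ D).hom]
  [QuasiCompact (obj₀ D).hom] [QuasiSeparated (obj₀ D).hom]

theorem exists_mdl (hg : SGA1.UnivSubmersive g) [Etale ν₀] (hn : Uni D (S.fromSpecStalk a) ν₀ n) :
    ∃ W : AffNhd a, Nonempty (Mdl ν₀ n W) := by
  let st := S.fromSpecStalk a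
  let i₀ : PUnit.{u + 1} := PUnit.unit
  have hsq := isPullback_of_uni hn i₀
  let p₀ := pullback.snd g (ν₀ ≫ st)
  haveI : Surjective p₀ := SGA1Sub21.surjective (MorphismProperty.pullback_snd g _ hg)
  haveI : QuasiCompact (p₀ ≫ ν₀) := MorphismProperty.of_isPullback hsq (inferInstanceAs (QuasiCompact ((obj₀ D).hom ≫ g)))
  haveI : QuasiSeparated (p₀ ≫ ν₀) := MorphismProperty.of_isPullback hsq (inferInstanceAs (QuasiSeparated ((obj₀ D).hom ≫ g)))
  haveI : IsAffine (nhdCone a).pt := inferInstanceAs (IsAffine (Spec _))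
  haveI : CompactSpace ↥(pullback g (ν₀ ≫ st)) := QuasiCompact.compactSpace_of_compactSpace (p₀ ≫ ν₀)
  haveI : QuasiSeparatedSpace ↥(pullback g (ν₀ ≫ st)) := quasiSeparatedSpace_of_quasiSeparated (p₀ ≫ ν₀)
  haveI : CompactSpace N₀ := compactSpace_of_surjective p₀
  haveI : QuasiSeparatedSpace N₀ := quasiSeparatedSpace_of_surjective p₀
  haveI : QuasiCompact ν₀ := (quasiCompact_iff_compactSpace ν₀).2 inferInstance
  haveI : QuasiSeparated ν₀ := inferInstance
  haveI : ∀ i, CompactSpace ↥((nhdDiag a).obj i) := fun i => inferInstance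
  haveI : ∀ i, QuasiSeparatedSpace ↥((nhdDiag a).obj i) := fun i => inferInstance
  obtain ⟨W, M, hM⟩ := LimDescend.exists_model_property (nhdDiag a) (nhdCone a) (isLimitNhdCone a) @Etale
    (fun a b _ h => LimSmooth.etale_comp_openImmersion a b h) LimSmooth.affineCase_etale ν₀ ‹Etale ν₀›
  haveI : IsAffine W.1.toScheme := W.2.1
  let z := pullback.snd g (M.hom ≫ W.1.ι) ≫ M.hom
  let b := pullback.snd ((obj₀ D).hom ≫ g) W.1.ι
  have hw : M.proj ≫ M.hom ≫ W.1.ι = ν₀ ≫ st := lim_w ν₀ M.isPullback.w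
  have hP : IsPullback (mz (g := g) M.proj hw) (p₀ ≫ ν₀) z ((nhdCone a).π.app W) :=
    isPullback_mz_comp hw M.isPullback
  have hst : IsPullback (n.a i₀) (p₀ ≫ ν₀) ((obj₀ D).hom ≫ g) ((nhdCone a).π.app W ≫ W.1.ι) := by
    rw [nhdCone_ι]; exact hsq
  obtain ⟨qE, hqE, hP'⟩ := GrothLib.LimDesc.exists_isPullback_of_comp hst (IsPullback.of_hasPullback ((obj₀ D).hom ≫ g) W.1.ι)
  haveI := hM
  haveI : CompactSpace ↥(pullback g (M.hom ≫ W.1.ι)) := QuasiCompact.compactSpace_of_compactSpace z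
  haveI : QuasiSeparatedSpace ↥(pullback g (M.hom ≫ W.1.ι)) := quasiSeparatedSpace_of_quasiSeparated z
  haveI : CompactSpace ↥(pullback ((obj₀ D).hom ≫ g) W.1.ι) := QuasiCompact.compactSpace_of_compactSpace b
  haveI : QuasiSeparatedSpace ↥(pullback ((obj₀ D).hom ≫ g) W.1.ι) := quasiSeparatedSpace_of_quasiSeparated b
  obtain ⟨k, gk, hgk, hcompat⟩ := LimDescend.exists_iso (nhdDiag a) z b hP hP' (isLimitNhdCone a)
    (Iso.refl _) (Category.id_comp _)
  let f := k.hom
  let ν' := pullback.snd M.hom ((nhdDiag a).map f)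
  have sqZ : IsPullback (mz (g := g) (pullback.fst M.hom ((nhdDiag a).map f)) (restr_w f M.hom))
      (pullback.snd g (ν' ≫ k.left.1.ι) ≫ ν') z ((nhdDiag a).map f) :=
    isPullback_mz_comp (restr_w f M.hom) (IsPullback.of_hasPullback _ _)
  let e := sqZ.isoPullback ≪≫ gk
  have he : e.hom ≫ pullback.snd b ((nhdDiag a).map f) = pullback.snd g (ν' ≫ k.left.1.ι) ≫ ν' := by
    rw [Iso.trans_hom, Category.assoc, hgk, sqZ.isoPullback_hom_snd]
  refine ⟨k.left, ⟨{
    N := _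
    ν := ν'
    et := inferInstance
    qc := inferInstance
    qs := inferInstance
    m := pullback.lift M.proj (ν₀ ≫ (nhdCone a).π.app k.left)
      (by rw [Category.assoc, (nhdCone a).w f]; exact M.isPullback.w)
    sq := ?_
    θ := e.hom ≫ pullback.fst b ((nhdDiag a).map f) ≫ pullback.fst _ _
    cart := ?_
    compat := ?_ }⟩⟩
  · refine IsPullback.of_right ?_ (pullback.lift_snd _ _ _) (IsPullback.of_hasPullback _ _)
    rw [pullback.lift_fst, (nhdCone a).w f]
    exact M.isPullback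
  · have h1 : IsPullback e.hom (pullback.snd g (ν' ≫ k.left.1.ι) ≫ ν') (pullback.snd b ((nhdDiag a).map f)) (𝟙 _) :=
      IsPullback.of_horiz_isIso ⟨by rw [he, Category.comp_id]⟩
    have h2 := h1.paste_horiz ((IsPullback.of_hasPullback b ((nhdDiag a).map f)).paste_horiz
      (IsPullback.of_hasPullback ((obj₀ D).hom ≫ g) W.1.ι))
    rwa [Category.id_comp, nhdDiag_map_ι] at h2
  · let m' := pullback.lift M.proj (ν₀ ≫ (nhdCone a).π.app k.left)
      (show M.proj ≫ M.hom = (ν₀ ≫ (nhdCone a).π.app k.left) ≫ (nhdDiag a).map f by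
        rw [Category.assoc, (nhdCone a).w f]; exact M.isPullback.w)
    have hm' : m' ≫ ν' ≫ k.left.1.ι = ν₀ ≫ st :=
      lim_w ν₀ (show m' ≫ ν' = ν₀ ≫ (nhdCone a).π.app k.left from pullback.lift_snd _ _ _)
    have key : mz (g := g) m' hm' ≫ sqZ.isoPullback.hom = (cone (nhdDiag a) W z hP).π.app k := by
      apply pullback.hom_ext
      · rw [Category.assoc, sqZ.isoPullback_hom_fst, π_fst]
        exact mz_trans _ _ _ _ _ _ (pullback.lift_fst _ _ _)
      · rw [Category.assoc, sqZ.isoPullback_hom_snd, π_snd, mz_snd_assoc]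
        exact (congrArg (pullback.snd g (ν₀ ≫ st) ≫ ·) (pullback.lift_snd _ _ _)).trans (Category.assoc _ _ _).symm
    rw [Iso.trans_hom]
    simp only [← Category.assoc]
    rw [key]
    simp only [Category.assoc]
    rw [← Category.assoc, hcompat, Iso.refl_hom, Category.id_comp, π_fst_assoc, hqE]

theorem Mdl.exists_over {W : AffNhd a} (M : Mdl ν₀ n W) :
    ∃ (V : AffNhd a) (M' : Mdl ν₀ n V), M'.θ ≫ (obj₀ D).hom = pullback.fst _ _ := by
  haveI := M.qc; haveI := M.qs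
  haveI : CompactSpace ↥(pullback g (M.ν ≫ W.1.ι)) :=
    QuasiCompact.compactSpace_of_compactSpace (pullback.snd g (M.ν ≫ W.1.ι) ≫ M.ν)
  obtain ⟨V, f, hf⟩ := exists_nhd_eq (pullback.snd g (M.ν ≫ W.1.ι) ≫ M.ν) g (M.θ ≫ (obj₀ D).hom)
    (pullback.fst g (M.ν ≫ W.1.ι))
    (by rw [Category.assoc]; exact M.cart.w)
    (pullback.condition.trans (Category.assoc _ _ _).symm)
    (isPullback_mz_comp (g := g) (lim_w ν₀ M.sq.w) M.sq)
    (by rw [← Category.assoc, M.compat, mz_fst]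
        exact n.hom _)
  refine ⟨V, M.restrict f, ?_⟩
  change (mz _ _ ≫ M.θ) ≫ _ = _
  rw [Category.assoc]
  refine (hf (mz (g := g) (pullback.fst M.ν _) (restr_w f M.ν)) (pullback.snd g _ ≫ pullback.snd M.ν _) ?_).trans
    (mz_fst _ _)
  exact (isPullback_mz_comp (g := g) (restr_w f M.ν) (IsPullback.of_hasPullback M.ν _)).w

theorem Mdl.exists_etRep (hg : SGA1.UnivSubmersive g) {W : AffNhd a} (M : Mdl ν₀ n W)
    (hθ : M.θ ≫ (obj₀ D).hom = pullback.fst _ _) :
    ∃ V : AffNhd a, EtRep D V.1.ι := by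
  haveI := M.et; haveI := M.qc; haveI := M.qs
  let i₀ : PUnit.{u + 1} := PUnit.unit
  let st := S.fromSpecStalk a
  let r := M.ν ≫ W.1.ι
  let s := pullback.snd g r
  let z₂ := pullback.fst s s ≫ s ≫ M.ν
  haveI : CompactSpace ↥(pullback s s) := QuasiCompact.compactSpace_of_compactSpace z₂
  let x₀ := pullback.fst s s ≫ pullback.fst g r
  let x₁ := pullback.snd s s ≫ pullback.fst g r
  have e₀ : x₀ ≫ g = z₂ ≫ W.1.ι := by
    simp only [x₀, z₂, s, r, Category.assoc, pullback.condition]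
  have e₁ : x₁ ≫ g = z₂ ≫ W.1.ι := by
    simp only [x₁, z₂, s, r, Category.assoc]
    rw [pullback.condition, ← Category.assoc, ← pullback.condition, Category.assoc]
  have hx : x₀ ≫ g = x₁ ≫ g := e₀.trans e₁.symm
  let v₀ : Lifts (D.obj i₀) x₀ := ⟨pullback.fst s s ≫ M.θ, by rw [Category.assoc, hθ]⟩
  let mup := mz (g := g) M.m (lim_w ν₀ M.sq.w)
  obtain ⟨V, f, hf⟩ := exists_nhd_eq z₂ ((obj₀ D).hom ≫ g) (D.φ (i := i₀) (j := i₀) x₀ x₁ hx v₀).1
    (pullback.snd s s ≫ M.θ)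
    (by rw [← Category.assoc, (D.φ (i := i₀) (j := i₀) x₀ x₁ hx v₀).2]; exact e₁)
    (by rw [← Category.assoc, Category.assoc (pullback.snd s s), hθ]; exact e₁)
    (IsPullback.of_hasPullback z₂ ((nhdCone a).π.app W))
    (by
      let P := pullback.fst z₂ ((nhdCone a).π.app W)
      let s₀ : pullback z₂ ((nhdCone a).π.app W) ⟶ N₀ := M.sq.lift (P ≫ pullback.fst s s ≫ s) (pullback.snd _ _)
        (by rw [← pullback.condition]; simp only [z₂, P, Category.assoc])
      have hs₀ : s₀ ≫ M.m = P ≫ pullback.fst s s ≫ s := M.sq.lift_fst _ _ _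
      have hr : s₀ ≫ ν₀ ≫ st = P ≫ z₂ ≫ W.1.ι := by
        rw [← lim_w ν₀ M.sq.w, reassoc_of% hs₀]
        simp only [z₂, Category.assoc]
      have hy₀ : (P ≫ x₀) ≫ g = s₀ ≫ ν₀ ≫ st := by rw [Category.assoc, e₀, hr]
      have hy₁ : (P ≫ x₁) ≫ g = s₀ ≫ ν₀ ≫ st := by rw [Category.assoc, e₁, hr]
      have l₀ : pullback.lift (P ≫ x₀) s₀ hy₀ ≫ mup = P ≫ pullback.fst s s := by
        apply pullback.hom_ext
        · rw [Category.assoc, mz_fst, pullback.lift_fst, Category.assoc]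
        · rw [Category.assoc, mz_snd, pullback.lift_snd_assoc, hs₀, Category.assoc]
      have l₁ : pullback.lift (P ≫ x₁) s₀ hy₁ ≫ mup = P ≫ pullback.snd s s := by
        apply pullback.hom_ext
        · rw [Category.assoc, mz_fst, pullback.lift_fst, Category.assoc]
        · rw [Category.assoc, mz_snd, pullback.lift_snd_assoc, hs₀, Category.assoc, pullback.condition]
      have hh : (P ≫ x₀) ≫ g = (P ≫ x₁) ≫ g := hy₀.trans hy₁.symm
      let v' : Lifts (D.obj i₀) (P ≫ x₀) := ⟨P ≫ v₀.1, by rw [Category.assoc, v₀.2]⟩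
      rw [← D.φ_natural P (i := i₀) (j := i₀) x₀ x₁ hx (P ≫ x₀) (P ≫ x₁) rfl rfl hh v₀ v' rfl]
      have hn₀ : pullback.lift (P ≫ x₀) s₀ hy₀ ≫ n.a i₀ = v'.1 := by
        rw [← M.compat, ← Category.assoc, show pullback.lift (P ≫ x₀) s₀ hy₀ ≫ mup = _ from l₀, Category.assoc]
      refine ((SchEffective.φ_congr D rfl rfl hh hh ?_).trans (n.compat (i := i₀) (j := i₀) _ _ s₀ hy₀ hy₁)).trans ?_
      · exact hn₀.symm
      · rw [← M.compat, ← Category.assoc, show pullback.lift (P ≫ x₁) s₀ hy₁ ≫ mup = _ from l₁, Category.assoc])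
  let M' := M.restrict f
  have hθ' : M'.θ ≫ (obj₀ D).hom = pullback.fst _ _ := by
    change (mz _ _ ≫ M.θ) ≫ _ = _
    rw [Category.assoc, hθ, mz_fst]
    rfl
  let nV : Elt D (M'.ν ≫ V.1.ι) :=
    { a := fun _ => M'.θ
      hom := fun _ => hθ'
      compat := fun T i j x y t hx' hy' => by
        let ρ := mz (g := g) (pullback.fst M.ν ((nhdDiag a).map f)) (restr_w f M.ν)
        have hx'' : x ≫ g = t ≫ pullback.snd M.ν ((nhdDiag a).map f) ≫ V.1.ι := hx'
        have hy'' : y ≫ g = t ≫ pullback.snd M.ν ((nhdDiag a).map f) ≫ V.1.ι := hy'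
        let k₀ := pullback.lift x t hx'' ≫ ρ
        let k₁ := pullback.lift y t hy'' ≫ ρ
        have hk : k₀ ≫ s = k₁ ≫ s := by
          simp only [k₀, k₁, ρ, s, r, Category.assoc, mz_snd, pullback.lift_snd_assoc]
        let κ := pullback.lift k₀ k₁ hk
        have hκx₀ : κ ≫ x₀ = x := by
          simp only [κ, x₀, k₀, ρ, r, Category.assoc, pullback.lift_fst_assoc, mz_fst, pullback.lift_fst]
        have hκx₁ : κ ≫ x₁ = y := by
          simp only [κ, x₁, k₁, ρ, r, Category.assoc, pullback.lift_snd_assoc, mz_fst, pullback.lift_fst]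
        have hκz : κ ≫ z₂ = (t ≫ M'.ν) ≫ (nhdDiag a).map f := by
          simp only [κ, z₂, k₀, ρ, s, r, Category.assoc, pullback.lift_fst_assoc, mz_snd_assoc, pullback.lift_snd_assoc]
          exact congrArg (t ≫ ·) pullback.condition
        have hxy : x ≫ g = y ≫ g := hx'.trans hy'.symm
        let v : Lifts (D.obj i₀) x := ⟨κ ≫ v₀.1, by rw [Category.assoc, v₀.2, hκx₀]⟩
        have e := D.φ_natural κ (i := i₀) (j := i₀) x₀ x₁ hx x y hκx₀ hκx₁ hxy v₀ v rfl
        rw [hf κ (t ≫ M'.ν) hκz] at e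
        refine ((SchEffective.φ_congr D rfl rfl hxy hxy ?_).trans e).trans ?_
        · change pullback.lift x t hx' ≫ ρ ≫ M.θ = κ ≫ pullback.fst s s ≫ M.θ
          rw [pullback.lift_fst_assoc, Category.assoc]
          rfl
        · change κ ≫ pullback.snd s s ≫ M.θ = pullback.lift y t hy' ≫ ρ ≫ M.θ
          rw [pullback.lift_snd_assoc, Category.assoc]
          rfl }
  haveI := M'.et
  exact ⟨V, M'.N, M'.ν, nV, M'.et, uni_of_isPullback (n := nV) hg M'.cart⟩

theorem exists_etRep_nhd (hg : SGA1.UnivSubmersive g) (h : EtRep D (S.fromSpecStalk a)) :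
    ∃ W : S.Opens, a ∈ W ∧ EtRep D W.ι := by
  obtain ⟨N₀, ν₀, n, hν₀, hn⟩ := h
  obtain ⟨W, ⟨M⟩⟩ := exists_mdl (ν₀ := ν₀) (n := n) hg hn
  obtain ⟨V, M', hM'⟩ := M.exists_over
  obtain ⟨U, hU⟩ := M'.exists_etRep hg hM'
  exact ⟨U.1, U.2.2, hU⟩

theorem etRep_stalk_of_nhd {W : S.Opens} (ha : a ∈ W) (h : EtRep D W.ι) : EtRep D (S.fromSpecStalk a) :=
  Scheme.Opens.fromSpecStalkOfMem_ι W a ha ▸ etRep_comp _ h

end GrothLib.EtDescent21
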