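import Groth.Agent.Lib.EtDescent21.Lift
import Groth.Agent.Lib.EtDescent21.Local
import Groth.Agent.Lib.EtDescent21.OpenSub
import Groth.Agent.Lib.ProEtS.GeomPoint

/-!
# The local step for étale effectivity along universally closed morphisms
-/

set_option autoImplicit false
set_option backward.isDefEq.respectTransparency false
set_option backward.isDefEq.respectTransparency.types false
set_option linter.style.haveILetI false

universe u

open CategoryTheory CategoryTheory.Limits AlgebraicGeometry Desc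

namespace GrothLib.EtDescent21

open GrothLib.SchEffective GrothLib.DDPull

section fpqc

variable {S X : Scheme.{u}} {g : X ⟶ S} {D : SchDDFam (fam g)}

theorem effEtS_of_fpqc [Flat g] [Surjective g] [QuasiCompact g] [Etale (obj₀ D).hom]
    [IsSeparated (obj₀ D).hom] [QuasiCompact (obj₀ D).hom] : EffEtS D := by
  have hp : Presieve.ofArrows (fun _ : PUnit.{u + 1} => X) (fam g) ∈ Scheme.fpqcPrecoverage S := by
    rw [Presieve.ofArrows_pUnit]
    exact Scheme.Hom.singleton_mem_fpqcPrecoverage g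
  obtain ⟨U, ⟨e⟩⟩ := isEffective_of_qcQA (fam g) hp D fun _ => qcQA_of_etale (obj₀ D).hom
  let i₀ : PUnit.{u + 1} := PUnit.unit
  let i : ((toDDFam (fam g)).obj U).obj i₀ ≅ D.obj i₀ :=
    { hom := e.hom.hom i₀, inv := e.inv.hom i₀
      hom_inv_id := by rw [← SchDDFam.comp_hom, e.hom_inv_id]; rfl
      inv_hom_id := by rw [← SchDDFam.comp_hom, e.inv_hom_id]; rfl }
  have hfst : ∀ (P : MorphismProperty Scheme.{u}) [P.RespectsIso], P (obj₀ D).hom → P (pullback.fst g U.hom) :=
    fun P _ h => (P.arrow_mk_iso_iff (Arrow.isoMk (f := Arrow.mk (pullback.fst g U.hom)) (g := Arrow.mk (obj₀ D).hom)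
      ((Over.forget X).mapIso i) (Iso.refl _) ((Over.w i.hom).trans (Category.comp_id _).symm))).2 h
  refine ⟨U, ?_, ?_, ?_, ⟨e⟩⟩
  · exact MorphismProperty.of_pullback_fst_of_descendsAlong (P := @Etale)
      (Q := @Surjective ⊓ @Flat ⊓ @QuasiCompact) ⟨⟨‹_›, ‹_›⟩, ‹_›⟩ (hfst @Etale inferInstance)
  · exact MorphismProperty.of_pullback_fst_of_descendsAlong (P := @IsSeparated)
      (Q := @Surjective ⊓ @Flat ⊓ @QuasiCompact) ⟨⟨‹_›, ‹_›⟩, ‹_›⟩ (hfst @IsSeparated inferInstance)
  · exact MorphismProperty.of_pullback_fst_of_descendsAlong (P := @QuasiCompact)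
      (Q := @Surjective ⊓ @Flat ⊓ @QuasiCompact) ⟨⟨‹_›, ‹_›⟩, ‹_›⟩ (hfst @QuasiCompact inferInstance)

end fpqc

/-- Every point of an étale scheme over a separably closed field is rational. -/
theorem exists_section_through {k : Type u} [Field k] [IsSepClosed k] {W : Scheme.{u}}
    (p : W ⟶ Spec (CommRingCat.of k)) [Etale p] (w : W) :
    ∃ j : Spec (CommRingCat.of k) ⟶ W, j ≫ p = 𝟙 _ ∧ IsOpenImmersion j ∧ w ∈ Set.range j := by
  haveI := EtBasicB.locallyQuasiFinite_of_unramified p
  haveI : IsLocallyArtinian W := IsLocallyArtinian.of_locallyQuasiFinite p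
  haveI : DiscreteTopology W := IsLocallyArtinian.discreteTopology
  let V : W.Opens := ⟨{w}, isOpen_discrete _⟩
  haveI : Etale (V.ι ≫ p) := inferInstance
  obtain ⟨s, hs⟩ := ProEtS.exists_section_of_isSepClosed (V.ι ≫ p) (⟨w, rfl⟩ : V)
  have hj : (s ≫ V.ι) ≫ p = 𝟙 _ := by rw [Category.assoc, hs]
  haveI : Mono (s ≫ V.ι) := mono_of_mono_fac hj
  haveI : Etale ((s ≫ V.ι) ≫ p) := hj.symm ▸ inferInstance
  haveI : Etale (s ≫ V.ι) := Etale.of_comp (s ≫ V.ι) p
  refine ⟨s ≫ V.ι, hj, IsOpenImmersion.of_flat_of_mono _, default, ?_⟩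
  rw [Scheme.Hom.comp_apply]
  exact (s default).2

section step

variable {A : Type u} [CommRing A] [HenselianLocalRing A] {X : Scheme.{u}}
  {g : X ⟶ Spec (CommRingCat.of A)} {D : SchDDFam (fam g)}

/-- An element over the closed point extends when the section of the datum does. -/
theorem exists_elt_extend [UniversallyClosed g] [Etale (obj₀ D).hom] (b₀ : Elt D (clPt A))
    (σ : X ⟶ (obj₀ D).left) (hσ : σ ≫ (obj₀ D).hom = 𝟙 X)
    (hσ₀ : pullback.fst g (clPt A) ≫ σ = b₀.a PUnit.unit) :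
    ∃ b : Elt D (𝟙 (Spec (CommRingCat.of A))), IsRes b (clPt A) b₀ := by
  let i₀ : PUnit.{u + 1} := PUnit.unit
  let p := pullback.fst g g
  let q := pullback.snd g g
  let ps : Lifts (D.obj i₀) p := ⟨p ≫ σ, by rw [Category.assoc]; exact (congrArg (p ≫ ·) hσ).trans (Category.comp_id p)⟩
  let u := (D.φ (i := i₀) (j := i₀) p q pullback.condition ps).1
  have hu : u = q ≫ σ := by
    refine ext_of_closedFibre (p ≫ g) (obj₀ D).hom u (q ≫ σ)
      ((D.φ (i := i₀) (j := i₀) p q pullback.condition ps).2.trans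
        ((Category.comp_id q).symm.trans ((congrArg (q ≫ ·) hσ).symm.trans (Category.assoc _ _ _).symm))) ?_
    let ι := pullback.fst (p ≫ g) (clPt A)
    let r := pullback.snd (p ≫ g) (clPt A)
    have hx : (ι ≫ p) ≫ g = r ≫ clPt A := (Category.assoc _ _ _).trans pullback.condition
    have hy : (ι ≫ q) ≫ g = r ≫ clPt A := by
      rw [Category.assoc, show q ≫ g = p ≫ g from pullback.condition.symm, ← Category.assoc, hx]
    have hxy : (ι ≫ p) ≫ g = (ι ≫ q) ≫ g := hx.trans hy.symm
    have hb : ∀ (x : pullback (p ≫ g) (clPt A) ⟶ X) (hx : x ≫ g = r ≫ clPt A),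
        x ≫ σ = (b₀.app (i := i₀) x r hx).1 := fun x hx =>
      ((congrArg (· ≫ σ) (pullback.lift_fst x r hx).symm).trans (Category.assoc _ _ _)).trans
        (congrArg (pullback.lift x r hx ≫ ·) hσ₀)
    refine ((D.φ_natural ι p q pullback.condition (ι ≫ p) (ι ≫ q) rfl rfl hxy ps
      ⟨(b₀.app (i := i₀) (ι ≫ p) r hx).1, (b₀.app (i := i₀) (ι ≫ p) r hx).2⟩
      ((hb _ hx).symm.trans (Category.assoc _ _ _))).symm).trans ?_
    exact ((congrArg Subtype.val (b₀.φ_app (i := i₀) (j := i₀) (ι ≫ p) (ι ≫ q) r hx hy hxy)).trans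
      (hb _ hy).symm).trans (Category.assoc _ _ _)
  have hφ : ∀ {T' : Scheme.{u}} (x y : T' ⟶ X) (h : x ≫ g = y ≫ g) (v : Lifts (D.obj i₀) x),
      v.1 = x ≫ σ → (D.φ (i := i₀) (j := i₀) x y h v).1 = y ≫ σ := fun x y h v hv => by
    refine (D.φ_natural (pullback.lift x y h) p q pullback.condition x y (pullback.lift_fst _ _ _)
      (pullback.lift_snd _ _ _) h ps v (hv.trans ((congrArg (· ≫ σ) (pullback.lift_fst x y h).symm).trans
        (Category.assoc _ _ _)))).trans ?_
    exact ((congrArg (pullback.lift x y h ≫ ·) hu).trans (Category.assoc _ _ _).symm).trans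
      (congrArg (· ≫ σ) (pullback.lift_snd x y h))
  let b : Elt D (𝟙 (Spec (CommRingCat.of A))) :=
    { a := fun _ => pullback.fst g (𝟙 _) ≫ σ
      hom := fun _ => ((Category.assoc _ _ _).trans (congrArg (pullback.fst g (𝟙 _) ≫ ·) hσ)).trans (Category.comp_id _)
      compat := fun T' i j x y s hx hy => by
        refine (hφ x y (hx.trans hy.symm) _ ?_).trans ?_
        · exact (Category.assoc _ _ _).symm.trans (congrArg (· ≫ σ) (pullback.lift_fst x s hx))
        · exact ((congrArg (· ≫ σ) (pullback.lift_fst y s hy).symm).trans (Category.assoc _ _ _)) }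
  refine ⟨b, Category.comp_id _, fun T' i x s h h' => ?_⟩
  change pullback.lift x (s ≫ clPt A) h' ≫ pullback.fst g (𝟙 _) ≫ σ = pullback.lift x s h ≫ b₀.a i₀
  rw [← hσ₀]
  exact ((Category.assoc _ _ _).symm.trans (congrArg (· ≫ σ)
    ((pullback.lift_fst x (s ≫ clPt A) h').trans (pullback.lift_fst x s h).symm))).trans (Category.assoc _ _ _)

/-- The locus where two elements agree is open. -/
theorem exists_open_eqLocus [UniversallyClosed g] [Etale (obj₀ D).hom] {T : Scheme.{u}}
    {t : T ⟶ Spec (CommRingCat.of A)} (a a' : Elt D t) :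
    ∃ V : T.Opens, ∀ {T' : Scheme.{u}} (h : T' ⟶ T), Set.range h ⊆ (V : Set T) ↔ a.res h rfl = a'.res h rfl := by
  let i₀ : PUnit.{u + 1} := PUnit.unit
  let π := pullback.snd g t
  obtain ⟨O, hO⟩ := exists_agreeOpen (obj₀ D).hom (a.a i₀) (a'.a i₀) ((a.hom i₀).trans (a'.hom i₀).symm)
  refine ⟨⟨(π '' (O : Set ↥(pullback g t))ᶜ)ᶜ, (π.isClosedMap _ O.2.isClosed_compl).isOpen_compl⟩, fun {T'} h => ?_⟩
  let k : pullback g (h ≫ t) ⟶ pullback g t := mz (g := g) h rfl
  have hk : Set.range k = π ⁻¹' Set.range h :=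
    (congrArg (fun f : pullback g (h ≫ t) ⟶ pullback g t => Set.range f)
      (isPullback_mz (g := g) h rfl).isoPullback_hom_fst.symm).trans (by
        rw [Scheme.Hom.comp_base, TopCat.coe_comp, Set.range_comp,
          Set.range_eq_univ.2 (isPullback_mz (g := g) h rfl).isoPullback.hom.surjective, Set.image_univ,
          Scheme.Pullback.range_fst])
  have h1 : Set.range h ⊆ (π '' (O : Set ↥(pullback g t))ᶜ)ᶜ ↔ Set.range k ⊆ (O : Set ↥(pullback g t)) := by
    rw [hk]
    refine ⟨fun H w hw => by_contra fun hwO => H hw ⟨w, hwO, rfl⟩, ?_⟩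
    rintro H _ ⟨y, rfl⟩ ⟨w, hw, e⟩
    exact hw (H ⟨y, e.symm⟩)
  refine h1.trans ((hO k).trans ⟨fun e => Elt.ext' fun T'' i x s hx => ?_, fun e => ?_⟩)
  · have hx' : x ≫ g = (s ≫ h) ≫ t := hx.trans (Category.assoc _ _ _).symm
    have hl : pullback.lift x (s ≫ h) hx' = pullback.lift x s hx ≫ k := by
      apply pullback.hom_ext
      · rw [Category.assoc, mz_fst, pullback.lift_fst, pullback.lift_fst]
      · rw [Category.assoc, mz_snd, pullback.lift_snd, pullback.lift_snd_assoc]
    rw [Elt.res_app a h rfl x s hx hx', Elt.res_app a' h rfl x s hx hx']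
    change pullback.lift x (s ≫ h) hx' ≫ a.a i₀ = pullback.lift x (s ≫ h) hx' ≫ a'.a i₀
    rw [hl, Category.assoc, e, ← Category.assoc]
  · have hx' : pullback.fst g (h ≫ t) ≫ g = (pullback.snd g (h ≫ t) ≫ h) ≫ t := by
      rw [Category.assoc]; exact pullback.condition
    have e' := congrArg (fun c : Elt D (h ≫ t) => (c.app (i := i₀) (pullback.fst g (h ≫ t)) (pullback.snd g (h ≫ t))
      pullback.condition).1) e
    simp only [Elt.res_app a h rfl _ _ pullback.condition hx', Elt.res_app a' h rfl _ _ pullback.condition hx'] at e'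
    exact e'

theorem etRep_id_of_punctured [UniversallyClosed g] [Surjective g] [QuasiCompact g]
    [IsSepClosed (IsLocalRing.ResidueField A)]
    [Etale (obj₀ D).hom] [IsSeparated (obj₀ D).hom] [QuasiCompact (obj₀ D).hom]
    (hg : SGA1.UnivSubmersive g)
    (hL : ∀ σ₀ : pullback g (clPt A) ⟶ (obj₀ D).left, σ₀ ≫ (obj₀ D).hom = pullback.fst g (clPt A) →
      ∃ σ : X ⟶ (obj₀ D).left, σ ≫ (obj₀ D).hom = 𝟙 X ∧ pullback.fst g (clPt A) ≫ σ = σ₀)
    (P : (Spec (CommRingCat.of A)).Opens)
    (hP : ∀ x : Spec (CommRingCat.of A), x ∈ P ↔ x ≠ IsLocalRing.closedPoint A)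
    (hrep : EtRep D P.ι) : EtRep D (𝟙 (Spec (CommRingCat.of A))) := by
  let k := IsLocalRing.ResidueField A
  have sq₀ : IsPullback (pullback.fst g (clPt A)) (pullback.snd g (clPt A)) g (clPt A) :=
    IsPullback.of_hasPullback g (clPt A)
  haveI : Flat (pullback.snd g (clPt A)) := inferInstance
  haveI : Surjective (pullback.snd g (clPt A)) := MorphismProperty.pullback_snd (P := @Surjective) _ _ inferInstance
  haveI : Etale (obj₀ (pullCart sq₀ D)).hom :=
    inferInstanceAs (Etale (pullback.snd (obj₀ D).hom (pullback.fst g (clPt A))))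
  haveI : IsSeparated (obj₀ (pullCart sq₀ D)).hom :=
    inferInstanceAs (IsSeparated (pullback.snd (obj₀ D).hom (pullback.fst g (clPt A))))
  haveI : QuasiCompact (obj₀ (pullCart sq₀ D)).hom :=
    inferInstanceAs (QuasiCompact (pullback.snd (obj₀ D).hom (pullback.fst g (clPt A))))
  obtain ⟨N₀, ν₀, n₀, _, -, -, hn₀⟩ := (effEtS_pull_iff (D := D) sq₀ hg).1 effEtS_of_fpqc
  choose j hj hjo hjr using fun z : N₀ => exists_section_through (k := k) ν₀ z
  have hb : ∀ z, ∃ (b₀ : Elt D (clPt A)) (b : Elt D (𝟙 (Spec (CommRingCat.of A)))),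
      IsRes n₀ (j z) b₀ ∧ IsRes b (clPt A) b₀ := fun z => by
    have hw : j z ≫ ν₀ ≫ clPt A = clPt A := by rw [← Category.assoc, hj z, Category.id_comp]
    obtain ⟨σ, hσ, hσ'⟩ := hL ((n₀.res (j z) hw).a PUnit.unit) ((n₀.res (j z) hw).hom _)
    obtain ⟨b, hb⟩ := exists_elt_extend _ σ hσ hσ'
    exact ⟨_, b, n₀.isRes_res _ _, hb⟩
  choose b₀ b hnb hbb using hb
  choose W hW using fun (z : N₀) (T : Scheme.{u}) (t : T ⟶ Spec (CommRingCat.of A)) (a : Elt D t) =>
    exists_open_eqLocus a ((b z).res t (Category.comp_id t))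
  obtain ⟨NP, νP, nP, hνP, hnP⟩ := hrep
  haveI := hνP
  let M : Option N₀ → Scheme.{u} := fun o => o.elim NP fun _ => Spec (CommRingCat.of A)
  let μ : ∀ o, M o ⟶ Spec (CommRingCat.of A) := fun o => match o with
    | none => νP ≫ P.ι
    | some _ => 𝟙 _
  let m : ∀ o, Elt D (μ o) := fun o => match o with
    | none => nP
    | some z => b z
  let V : ∀ (_ : Option N₀) {T : Scheme.{u}} (t : T ⟶ Spec (CommRingCat.of A)) (_ : Elt D t), T.Opens :=
    fun o {T} t a => match o with
    | none => t ⁻¹ᵁ P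
    | some z => W z T t a
  have hV : ∀ (o : Option N₀) {T : Scheme.{u}} (t : T ⟶ Spec (CommRingCat.of A)) (a : Elt D t) {T' : Scheme.{u}}
      (h : T' ⟶ T), Set.range h ⊆ (V o t a : Set T) ↔ ∃ l : T' ⟶ M o, IsRes (m o) l (a.res h rfl) := by
    intro o T t a T' h
    match o with
    | none =>
      refine ⟨fun hh => ?_, ?_⟩
      · have hrt : Set.range (h ≫ t) ⊆ Set.range P.ι := by
          rw [Scheme.Opens.range_ι]
          rintro _ ⟨z, rfl⟩
          exact hh ⟨z, rfl⟩
        obtain ⟨l, ⟨hl₁, hl₂⟩, -⟩ := hnP (IsOpenImmersion.lift P.ι (h ≫ t) hrt)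
          (a.res h (IsOpenImmersion.lift_fac _ _ hrt).symm)
        exact ⟨l, isRes_res_congr (IsOpenImmersion.lift_fac _ _ hrt).symm hl₂⟩
      · rintro ⟨l, hl⟩ _ ⟨z, rfl⟩
        change t (h z) ∈ P
        rw [← Scheme.Hom.comp_apply, ← hl.1]
        exact ((l ≫ νP) z).2
    | some z =>
      change Set.range h ⊆ (W z T t a : Set T) ↔ _
      rw [hW z T t a h]
      have key : IsRes (b z) (h ≫ t) (((b z).res t (Category.comp_id t)).res h rfl) :=
        ((b z).isRes_res t _).comp (Elt.isRes_res _ h rfl)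
      refine ⟨fun e => ⟨h ≫ t, e ▸ key⟩, ?_⟩
      rintro ⟨l, hl⟩
      obtain rfl : l = h ≫ t := (Category.comp_id l).symm.trans hl.1
      exact hl.eq.trans key.eq.symm
  refine etRep_id_of_openSub M μ (fun o => match o with
    | none => show Etale (νP ≫ P.ι) by infer_instance
    | some _ => show Etale (𝟙 (Spec (CommRingCat.of A))) by infer_instance) m V hV
    (fun o {T} t a l l' hl hl' => ?_) fun {T} t a z => ?_
  · match o with
    | none =>
      have e : l ≫ νP = l' ≫ νP := (cancel_mono P.ι).1 (by simp only [Category.assoc]; exact hl.1.trans hl'.1.symm)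
      have hi : (l ≫ νP) ≫ P.ι = t := (Category.assoc _ _ _).trans hl.1
      obtain ⟨l₀, -, hu⟩ := hnP (l ≫ νP) (Elt.castEq hi.symm a)
      have cv : ∀ l₁, IsRes nP l₁ a → IsRes nP l₁ (Elt.castEq hi.symm a) := fun l₁ h₁ => by
        subst hi; exact h₁
      exact (hu l ⟨rfl, cv l hl⟩).trans (hu l' ⟨e.symm, cv l' hl'⟩).symm
    | some _ => exact (Category.comp_id l).symm.trans ((hl.1.trans hl'.1.symm).trans (Category.comp_id l'))
  · by_cases hz : t z ∈ P
    · exact ⟨none, hz⟩
    have hcl : t z = IsLocalRing.closedPoint A := by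
      by_contra hne
      exact hz ((hP _).2 hne)
    let ζ := T.fromSpecResidueField z
    obtain ⟨φ, hφ⟩ := Spec.map_surjective (ζ ≫ t)
    haveI : IsLocalHom φ.hom := by
      refine (IsLocalRing.isLocalHom_iff_comap_closedPoint φ.hom).2 ?_
      change (Spec.map φ) (IsLocalRing.closedPoint (T.residueField z)) = _
      rw [hφ, Scheme.Hom.comp_apply, Scheme.fromSpecResidueField_apply]
      exact hcl
    let r : Spec (T.residueField z) ⟶ Spec (CommRingCat.of k) :=
      Spec.map (CommRingCat.ofHom (IsLocalRing.ResidueField.lift φ.hom))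
    have hr : ζ ≫ t = r ≫ clPt A := by
      rw [← hφ, ← Spec.map_comp]
      congr 1
    obtain ⟨l, ⟨hl₁, hl₂⟩, -⟩ := hn₀ r (a.res ζ hr)
    let z' := l (IsLocalRing.closedPoint (T.residueField z))
    refine ⟨some z', ?_⟩
    haveI := hjo z'
    have hlr : Set.range l ⊆ Set.range (j z') := by
      rintro _ ⟨y, rfl⟩
      obtain rfl : y = IsLocalRing.closedPoint (T.residueField z) :=
        Subsingleton.elim (α := PrimeSpectrum (T.residueField z)) _ _
      exact hjr z'
    have hlj : r ≫ j z' = l := by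
      have e := IsOpenImmersion.lift_fac (j z') l hlr
      have : IsOpenImmersion.lift (j z') l hlr = r := by
        have e₂ := congrArg (· ≫ ν₀) e
        simp only [Category.assoc, hj z', Category.comp_id] at e₂
        exact e₂.trans hl₁
      rwa [this] at e
    have hres : IsRes (b₀ z') r (a.res ζ hr) := by
      rw [(hnb z').eq]
      exact isRes_res_of_comp _ (hlj.symm ▸ hl₂)
    have hsub : Set.range ζ ⊆ (V (some z') t a : Set T) :=
      (hV (some z') t a ζ).2 ⟨r ≫ clPt A, isRes_res_congr hr ((hbb z').comp hres)⟩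
    exact hsub ⟨IsLocalRing.closedPoint _, Scheme.fromSpecResidueField_apply _ _⟩

end step

end GrothLib.EtDescent21
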