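import Groth.Agent.Lib.EtDescent21.Zariski
import Groth.Agent.Lib.SchEffective.Sheaf

/-!
# Representability of elements is local for fpqc coverings
-/

set_option autoImplicit false
set_option backward.isDefEq.respectTransparency false
set_option backward.isDefEq.respectTransparency.types false

universe u

open CategoryTheory CategoryTheory.Limits AlgebraicGeometry Desc

namespace GrothLib.EtDescent21

open GrothLib.SchEffective GrothLib.DDPull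

variable {S X : Scheme.{u}} {g : X ⟶ S} {D : SchDDFam (fam g)} {S₁ : Scheme.{u}} {p : S₁ ⟶ S}

/-- If the datum formed by the representing objects over a covering is representable, so is the datum. -/
theorem exists_universal_of_reps (R : Reps D (fam p))
    (hp : Sieve.ofArrows (fun _ : PUnit.{u + 1} => S₁) (fun _ => p) ∈ Scheme.fpqcTopology S)
    (hR : IsRep R.dd) :
    ∃ (M : Scheme.{u}) (μ : M ⟶ S) (m : Elt D μ), IsUniversal m ∧
      ∃ e : R.N PUnit.unit ⟶ M, IsPullback e (R.ν PUnit.unit) μ p := by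
  obtain ⟨M, μ, r, hr⟩ := hR
  obtain ⟨e, heμ, h1, h2⟩ := exists_descended hr
  let i₀ : PUnit.{u + 1} := PUnit.unit
  let π : R.N i₀ ⟶ M := e i₀
  let ν := R.ν i₀
  have hsq : π ≫ μ = ν ≫ p := heμ i₀
  have hπ : ∀ {T : Scheme.{u}} (w : T ⟶ R.N i₀) (x : T ⟶ S₁) (hx : w ≫ ν = x) (h : x ≫ p = (w ≫ π) ≫ μ),
      (r.app (i := i₀) x (w ≫ π) h).1 = w := fun w x hx h => h1 x ⟨w, hx⟩ h
  have hPB : IsPullback π ν μ p := by
    refine IsPullback.of_isLimit (PullbackCone.IsLimit.mk hsq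
      (fun c => (r.app (i := i₀) c.snd c.fst c.condition.symm).1) (fun c => h2 _ _ _)
      (fun c => (r.app (i := i₀) c.snd c.fst c.condition.symm).2) fun c k hk₁ hk₂ => ?_)
    rw [← hπ k c.snd hk₂ (by rw [hk₁]; exact c.condition.symm)]
    exact r.app_congr rfl hk₁ _ _
  have cov : ∀ {T : Scheme.{u}} (t : T ⟶ S),
      (Sieve.ofArrows (fun _ : PUnit.{u + 1} => S₁) (fun _ => p)).pullback t ∈ Scheme.fpqcTopology T :=
    fun t => Scheme.fpqcTopology.pullback_stable t hp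
  -- points of `R.N` with the same image in `M` give the same element
  have indep : ∀ {T : Scheme.{u}} (w w' : T ⟶ R.N i₀) (hw : w ≫ π = w' ≫ π)
      {T' : Scheme.{u}} (i : PUnit.{u + 1}) (y : T' ⟶ X) (s : T' ⟶ T) (h : y ≫ g = (s ≫ w) ≫ ν ≫ p)
      (h' : y ≫ g = (s ≫ w') ≫ ν ≫ p),
      ((R.n i₀).app (i := i) y (s ≫ w) h).1 = ((R.n i₀).app (i := i) y (s ≫ w') h').1 := by
    intro T w w' hw T' i y s h h'
    have hx : (w ≫ ν) ≫ p = (w ≫ π) ≫ μ := by rw [Category.assoc, Category.assoc, hsq]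
    have hx' : (w' ≫ ν) ≫ p = (w ≫ π) ≫ μ := by rw [hw, Category.assoc, Category.assoc, hsq]
    have e1 := r.φ_app (i := i₀) (j := i₀) (w ≫ ν) (w' ≫ ν) (w ≫ π) hx hx' (hx.trans hx'.symm)
    have e2 : (r.app (i := i₀) (w' ≫ ν) (w ≫ π) hx').1 = w' :=
      (r.app_congr rfl hw _ (by rw [← hw]; exact hx')).trans (hπ w' _ rfl _)
    have e0 : r.app (i := i₀) (w ≫ ν) (w ≫ π) hx = ⟨w, rfl⟩ := Subtype.ext (hπ w _ rfl _)
    rw [e0] at e1
    have e3 : (R.trans (w ≫ ν) (w' ≫ ν) (hx.trans hx'.symm) ⟨w, rfl⟩).1 = w' :=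
      (congrArg Subtype.val e1).trans e2
    have h₁ : y ≫ g = (s ≫ (R.trans (w ≫ ν) (w' ≫ ν) (hx.trans hx'.symm) ⟨w, rfl⟩).1) ≫ ν ≫ p := by
      rw [e3]; exact h'
    refine ((R.trans_app (w ≫ ν) (w' ≫ ν) (hx.trans hx'.symm) ⟨w, rfl⟩ (i := i) y s h h₁).symm).trans ?_
    exact (R.n i₀).app_congr rfl (congrArg (s ≫ ·) e3) _ _
  have hmem : Sieve.ofArrows (fun _ : PUnit.{u + 1} => R.N i₀) (fun _ => π) ∈ Scheme.fpqcTopology M := by
    refine GrothendieckTopology.superset_covering _ ?_ (cov μ)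
    intro T t ht
    obtain ⟨-, x, hx⟩ := (Sieve.mem_ofArrows_iff _ _ _).1 ht
    exact (Sieve.mem_ofArrows_iff _ _ _).2 ⟨i₀, hPB.lift t x hx, (hPB.lift_fst _ _ _).symm⟩
  have hw₀ : ∀ {T : Scheme.{u}} {t : T ⟶ M} {w : T ⟶ R.N i₀}, t = w ≫ π → w ≫ ν ≫ p = t ≫ μ :=
    fun {T t w} h => by rw [h, Category.assoc, hsq]
  have hchoice : ∀ ⦃T : Scheme.{u}⦄ (t : T ⟶ M),
      Sieve.ofArrows (fun _ : PUnit.{u + 1} => R.N i₀) (fun _ => π) t → ∃ w : T ⟶ R.N i₀, t = w ≫ π :=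
    fun T t ht => by
      obtain ⟨-, w, hw⟩ := (Sieve.mem_ofArrows_iff _ _ _).1 ht
      exact ⟨w, hw⟩
  choose W hW using hchoice
  obtain ⟨m, hm⟩ := Elt.exists_glue (D := D) (t := μ) hmem
    (fun T t ht => (R.n i₀).res (W t ht) (hw₀ (hW t ht))) fun T T' k t ht hkt => by
      refine ⟨(Category.assoc _ _ _).symm, fun T'' i y s h h' => ?_⟩
      have hd : y ≫ g = ((s ≫ k) ≫ W t ht) ≫ ν ≫ p := by
        rw [Category.assoc, hw₀ (hW t ht)]; exact h'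
      have he : y ≫ g = (s ≫ W (k ≫ t) hkt) ≫ ν ≫ p := by
        rw [Category.assoc, hw₀ (hW _ hkt)]; exact h
      rw [Elt.res_app (R.n i₀) _ _ (i := i) y (s ≫ k) h' hd, Elt.res_app (R.n i₀) _ _ (i := i) y s h he,
        (R.n i₀).app_congr rfl (Category.assoc s k (W t ht)) hd (by rw [← Category.assoc s k]; exact hd)]
      exact indep (k ≫ W t ht) (W (k ≫ t) hkt) (by rw [Category.assoc, ← hW, ← hW]) i y s _ he
  -- the value of `m` at the image of a point of `R.N`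
  have hmval : ∀ {T : Scheme.{u}} (w : T ⟶ R.N i₀) {T' : Scheme.{u}} (i : PUnit.{u + 1}) (y : T' ⟶ X) (s : T' ⟶ T)
      (h : y ≫ g = (s ≫ w ≫ π) ≫ μ) (h' : y ≫ g = (s ≫ w) ≫ ν ≫ p),
      (m.app (i := i) y (s ≫ w ≫ π) h).1 = ((R.n i₀).app (i := i) y (s ≫ w) h').1 := by
    intro T w T' i y s h h'
    have ht : Sieve.ofArrows (fun _ : PUnit.{u + 1} => R.N i₀) (fun _ => π) (w ≫ π) :=
      (Sieve.mem_ofArrows_iff _ _ _).2 ⟨i₀, w, rfl⟩
    have hs : y ≫ g = s ≫ (w ≫ π) ≫ μ := h.trans (Category.assoc _ _ _)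
    have hd : y ≫ g = (s ≫ W _ ht) ≫ ν ≫ p := by rw [Category.assoc, hw₀ (hW _ ht)]; exact hs
    rw [(hm (w ≫ π) ht).2 (i := i) y s hs h, Elt.res_app (R.n i₀) _ _ (i := i) y s hs hd]
    exact indep _ w (hW _ ht).symm i y s hd h'
  refine ⟨M, μ, m, fun T t a => ?_, π, hPB⟩
  have hb : ∀ ⦃T' : Scheme.{u}⦄ (s : T' ⟶ T) (x : T' ⟶ S₁), s ≫ t = x ≫ p →
      ∃ w : T' ⟶ R.N i₀, w ≫ ν = x ∧
        ∀ ⦃T'' : Scheme.{u}⦄ (i : PUnit.{u + 1}) (y : T'' ⟶ X) (k : T'' ⟶ T') (h : y ≫ g = (k ≫ w) ≫ ν ≫ p)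
          (h' : y ≫ g = (k ≫ s) ≫ t),
          ((R.n i₀).app (i := i) y (k ≫ w) h).1 = (a.app (i := i) y (k ≫ s) h').1 := by
    intro T' s x hx
    obtain ⟨w, ⟨hw₁, hw₂⟩, -⟩ := R.univ i₀ x (a.res s hx)
    refine ⟨w, hw₁, fun T'' i y k h h' => ?_⟩
    have h0 : y ≫ g = k ≫ x ≫ p := by rw [h', Category.assoc, hx]
    rw [hw₂.2 y k h0 h, Elt.res_app a s hx y k h0 h']
  choose w hwν hwapp using hb
  have pts_eq : ∀ {T' : Scheme.{u}} (x : T' ⟶ S₁) (v v' : T' ⟶ R.N i₀) (hv : v ≫ ν = x) (hv' : v' ≫ ν = x),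
      (∀ ⦃T'' : Scheme.{u}⦄ (i : PUnit.{u + 1}) (y : T'' ⟶ X) (l : T'' ⟶ T') (h₁ : y ≫ g = (l ≫ v) ≫ ν ≫ p)
        (h₂ : y ≫ g = (l ≫ v') ≫ ν ≫ p),
        ((R.n i₀).app (i := i) y (l ≫ v) h₁).1 = ((R.n i₀).app (i := i) y (l ≫ v') h₂).1) → v = v' := by
    intro T' x v v' hv hv' hh
    have := (R.toElt_bijective x).1 (a₁ := ⟨v, hv⟩) (a₂ := ⟨v', hv'⟩) (Elt.ext' fun T'' i y l hl => by
      have h₁ : y ≫ g = (l ≫ v) ≫ ν ≫ p := by rw [Category.assoc, ← Category.assoc v, hv]; exact hl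
      have h₂ : y ≫ g = (l ≫ v') ≫ ν ≫ p := by rw [Category.assoc, ← Category.assoc v', hv']; exact hl
      refine (Elt.res_app (R.n i₀) v _ (i := i) y l hl h₁).trans ?_
      exact (hh i y l h₁ h₂).trans (Elt.res_app (R.n i₀) v' _ (i := i) y l hl h₂).symm)
    exact congrArg Subtype.val this
  obtain ⟨j, hj⟩ := DDFull.exists_glue (W := M) (cov t)
    (fun T' s v => ∃ (x : T' ⟶ S₁) (hx : s ≫ t = x ≫ p), v = w s x hx ≫ π)
    (fun T' s hs => by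
      obtain ⟨-, x, hx⟩ := (Sieve.mem_ofArrows_iff _ _ _).1 hs
      exact ⟨_, x, hx, rfl⟩)
    (fun T' s v ⟨x, hx, _⟩ => (Sieve.mem_ofArrows_iff _ _ _).2 ⟨i₀, x, hx⟩)
    (by
      rintro T' s v v' ⟨x, hx, rfl⟩ ⟨x', hx', rfl⟩
      have h : x ≫ p = x' ≫ p := hx.symm.trans hx'
      let v₀ : Lifts (Over.mk (R.ν i₀)) x := ⟨w s x hx, hwν s x hx⟩
      have e : (R.trans x x' h v₀).1 = w s x' hx' := by
        refine pts_eq x' _ _ (R.trans x x' h v₀).2 (hwν s x' hx') fun T'' i y l h₁ h₂ => ?_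
        have hl' : y ≫ g = (l ≫ s) ≫ t := by
          rw [h₂, Category.assoc, ← Category.assoc (w s x' hx'), hwν, ← hx', Category.assoc]
        have h₀ : y ≫ g = (l ≫ w s x hx) ≫ ν ≫ p := by
          rw [hl', Category.assoc, hx, Category.assoc l, ← Category.assoc (w s x hx), hwν]
        refine (R.trans_app x x' h v₀ (i := i) y l h₀ h₁).trans ?_
        exact (hwapp s x hx i y l h₀ hl').trans (hwapp s x' hx' i y l h₂ hl').symm
      have hz : x ≫ p = (w s x hx ≫ π) ≫ μ := by rw [Category.assoc, hsq, ← Category.assoc, hwν]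
      have hz' : x' ≫ p = (w s x hx ≫ π) ≫ μ := h.symm.trans hz
      have e1 := r.φ_app (i := i₀) (j := i₀) x x' (w s x hx ≫ π) hz hz' h
      rw [show r.app (i := i₀) x (w s x hx ≫ π) hz = v₀ from Subtype.ext (hπ _ _ (hwν s x hx) _)] at e1
      have e2 : (r.app (i := i₀) x' (w s x hx ≫ π) hz').1 = w s x' hx' :=
        (congrArg Subtype.val e1).symm.trans e
      exact (h2 _ _ hz').symm.trans (congrArg (· ≫ π) e2))
    (by
      rintro T₂ T₃ k s v ⟨x, hx, rfl⟩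
      have hx' : (k ≫ s) ≫ t = (k ≫ x) ≫ p := by rw [Category.assoc, hx, Category.assoc]
      refine ⟨k ≫ x, hx', ?_⟩
      rw [← Category.assoc]
      congr 1
      refine pts_eq (k ≫ x) _ _ (by rw [Category.assoc, hwν]) (hwν _ _ _) fun T'' i y l h₁ h₂ => ?_
      have hl' : y ≫ g = ((l ≫ k) ≫ s) ≫ t := by
        rw [h₂, Category.assoc, ← Category.assoc (w (k ≫ s) (k ≫ x) hx'), hwν, ← hx']
        simp only [Category.assoc]
      have hl₁ : y ≫ g = ((l ≫ k) ≫ w s x hx) ≫ ν ≫ p := by rw [Category.assoc l k]; exact h₁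
      rw [(R.n i₀).app_congr rfl (Category.assoc l k (w s x hx)).symm _ hl₁, hwapp s x hx i y (l ≫ k) hl₁ hl',
        hwapp (k ≫ s) (k ≫ x) hx' i y l h₂ (by rw [← Category.assoc]; exact hl')]
      exact a.app_congr rfl (Category.assoc _ _ _) _ _)
  have hjμ : j ≫ μ = t := DDFull.hom_ext (cov t) fun T' s hs => by
    obtain ⟨-, x, hx⟩ := (Sieve.mem_ofArrows_iff _ _ _).1 hs
    rw [← Category.assoc, hj s _ ⟨x, hx, rfl⟩, Category.assoc, hsq, ← Category.assoc, hwν, hx]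
  refine ⟨j, ⟨hjμ, fun T' i y s h h' => ?_⟩, fun j' hj' => DDFull.hom_ext (cov t) fun T' s hs => ?_⟩
  · refine DDFull.hom_ext (cov (s ≫ t)) fun T'' k hk => ?_
    obtain ⟨-, x, hx⟩ := (Sieve.mem_ofArrows_iff _ _ _).1 hk
    have hx₁ : (k ≫ s) ≫ t = x ≫ p := by rw [Category.assoc]; exact hx
    have hy : (k ≫ y) ≫ g = (k ≫ s) ≫ t := by rw [Category.assoc, h, Category.assoc]
    have hy' : (k ≫ y) ≫ g = (k ≫ s ≫ j) ≫ μ := by rw [Category.assoc, h']; simp only [Category.assoc]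
    rw [← a.app_natural k y s h hy, ← m.app_natural k y (s ≫ j) h' hy']
    have e : k ≫ s ≫ j = 𝟙 T'' ≫ w (k ≫ s) x hx₁ ≫ π := by
      rw [Category.id_comp, ← Category.assoc]; exact hj _ _ ⟨x, hx₁, rfl⟩
    have hy₁ : (k ≫ y) ≫ g = (𝟙 T'' ≫ w (k ≫ s) x hx₁) ≫ ν ≫ p := by
      rw [hy, hx₁, Category.id_comp, ← Category.assoc, hwν]
    rw [m.app_congr rfl e hy' (by rw [← e]; exact hy'), hmval _ i (k ≫ y) (𝟙 T'') _ hy₁,
      hwapp (k ≫ s) x hx₁ i (k ≫ y) (𝟙 T'') hy₁ (by rw [Category.id_comp]; exact hy)]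
    exact a.app_congr rfl (Category.id_comp _) _ _
  · obtain ⟨-, x, hx⟩ := (Sieve.mem_ofArrows_iff _ _ _).1 hs
    rw [hj s _ ⟨x, hx, rfl⟩]
    have hz : x ≫ p = (s ≫ j') ≫ μ := by rw [Category.assoc, hj'.1]; exact hx.symm
    let v : T' ⟶ R.N i₀ := hPB.lift (s ≫ j') x hz.symm
    have hv₁ : v ≫ π = s ≫ j' := hPB.lift_fst _ _ _
    have hv₂ : v ≫ ν = x := hPB.lift_snd _ _ _
    suffices v = w s x hx by rw [← hv₁, this]
    refine pts_eq x _ _ hv₂ (hwν s x hx) fun T'' i y l hl₁ hl₂ => ?_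
    have hl : y ≫ g = l ≫ x ≫ p := by rw [hl₁, Category.assoc, ← Category.assoc v, hv₂]
    have hl' : y ≫ g = (l ≫ s) ≫ t := by rw [Category.assoc, hx]; exact hl
    have h₃ : y ≫ g = (l ≫ v ≫ π) ≫ μ := by
      rw [hv₁, hl', Category.assoc l (s ≫ j'), Category.assoc s, hj'.1, Category.assoc]
    have h₄ : y ≫ g = ((l ≫ s) ≫ j') ≫ μ := by rw [Category.assoc (l ≫ s), hj'.1]; exact hl'
    rw [hwapp s x hx i y l hl₂ hl', ← hmval v i y l h₃ hl₁, ← hj'.2 (i := i) y (l ≫ s) hl' h₄]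
    exact m.app_congr rfl (by rw [hv₁, Category.assoc]) _ _

end GrothLib.EtDescent21
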