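import Groth.Agent.Lib.EtDescent21.Step

/-!
# Effectivity of étale descent data along universally closed surjective morphisms
-/

set_option autoImplicit false
set_option backward.isDefEq.respectTransparency false
set_option backward.isDefEq.respectTransparency.types false
set_option linter.style.haveILetI false

universe u

open CategoryTheory CategoryTheory.Limits AlgebraicGeometry Desc

namespace GrothLib.EtDescent21

open GrothLib.SchEffective GrothLib.DDPull

theorem univSubmersive_of_universallyClosed {X S : Scheme.{u}} (g : X ⟶ S) [UniversallyClosed g] [Surjective g] :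
    SGA1.UnivSubmersive g := fun _ _ _ _ g' h => by
  haveI : UniversallyClosed g' := MorphismProperty.of_isPullback h.flip ‹UniversallyClosed g›
  haveI : Surjective g' := MorphismProperty.of_isPullback h.flip ‹Surjective g›
  exact g'.isClosedMap.isQuotientMap g'.continuous g'.surjective

variable {S X : Scheme.{u}} {g : X ⟶ S}

/-- Effectivity when sections of the datum lift from the closed fibres over strictly henselian bases. -/
theorem effEtS_of_universallyClosed [UniversallyClosed g] [Surjective g] [LocallyOfFinitePresentation g]
    [QuasiSeparated g] (D : SchDDFam (fam g)) [Etale (obj₀ D).hom] [IsSeparated (obj₀ D).hom] [QuasiCompact (obj₀ D).hom]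
    (hL : ∀ (A : Type u) [CommRing A] [HenselianLocalRing A] (q : Spec (CommRingCat.of A) ⟶ S)
      (σ₀ : pullback (pullback.snd g q) (clPt A) ⟶ pullback (obj₀ D).hom (pullback.fst g q)),
      σ₀ ≫ pullback.snd (obj₀ D).hom (pullback.fst g q) = pullback.fst (pullback.snd g q) (clPt A) →
      ∃ σ : pullback g q ⟶ pullback (obj₀ D).hom (pullback.fst g q),
        σ ≫ pullback.snd (obj₀ D).hom (pullback.fst g q) = 𝟙 _ ∧ pullback.fst (pullback.snd g q) (clPt A) ≫ σ = σ₀) :
    EffEtS D := by
  have hg := univSubmersive_of_universallyClosed g
  refine (effEtS_iff_etSRep_id hg).2 (etSRep_of_etRep hg (etRep_id_of_localStep hg fun A _ _ _ q P hP h => ?_))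
  have sq : IsPullback (pullback.fst g q) (pullback.snd g q) g q := IsPullback.of_hasPullback g q
  haveI : Surjective (pullback.snd g q) := MorphismProperty.pullback_snd (P := @Surjective) _ _ inferInstance
  haveI : Etale (obj₀ (pullCart sq D)).hom :=
    inferInstanceAs (Etale (pullback.snd (obj₀ D).hom (pullback.fst g q)))
  haveI : IsSeparated (obj₀ (pullCart sq D)).hom :=
    inferInstanceAs (IsSeparated (pullback.snd (obj₀ D).hom (pullback.fst g q)))
  haveI : QuasiCompact (obj₀ (pullCart sq D)).hom :=
    inferInstanceAs (QuasiCompact (pullback.snd (obj₀ D).hom (pullback.fst g q)))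
  exact (etRep_trans_iff sq (Category.id_comp q)).1
    (etRep_id_of_punctured (MorphismProperty.of_isPullback sq hg) (hL A q) P hP
      ((etRep_trans_iff sq rfl).2 h))

end GrothLib.EtDescent21
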