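import Groth.Agent.Lib.EtDescent21.QuasiFinite
import Groth.Agent.Lib.QSect21.Finite

/-!
# Effectivity of étale descent data along universally open surjective morphisms of finite type
-/

set_option autoImplicit false
set_option backward.isDefEq.respectTransparency false
set_option backward.isDefEq.respectTransparency.types false
set_option linter.style.haveILetI false

universe u

open CategoryTheory CategoryTheory.Limits AlgebraicGeometry Desc

namespace GrothLib.EtDescent21

open GrothLib.SchEffective GrothLib.DDPull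

/-- A datum which becomes effective after a finite surjective refinement is effective. -/
theorem etRep_id_of_finite_refine {S X T : Scheme.{u}} {g : X ⟶ S} {g₃ : T ⟶ S} [IsFinite g₃] [Surjective g₃]
    [LocallyOfFinitePresentation g₃] (h : T ⟶ X) (hw : h ≫ g = g₃)
    (D : SchDDFam (fam g)) [Etale (obj₀ D).hom] [IsSeparated (obj₀ D).hom] [QuasiCompact (obj₀ D).hom] :
    EtRep D (𝟙 S) := by
  haveI : Etale (obj₀ (refineDD hw D)).hom := inferInstanceAs (Etale (pullback.snd (obj₀ D).hom h))
  haveI : IsSeparated (obj₀ (refineDD hw D)).hom := inferInstanceAs (IsSeparated (pullback.snd (obj₀ D).hom h))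
  haveI : QuasiCompact (obj₀ (refineDD hw D)).hom := inferInstanceAs (QuasiCompact (pullback.snd (obj₀ D).hom h))
  have hg₃ := univSubmersive_of_universallyClosed g₃
  exact (etRep_refine_iff hw hg₃).1 ((effEtS_iff_etSRep_id hg₃).1
    (effEtS_of_universallyClosed (refineDD hw D) fun B _ _ q σ₀ h₀ =>
      exists_lift_of_etale (pullback.snd g₃ q) _ σ₀ h₀)).etRep

/-- The datum is effective over a complete noetherian local ring. -/
theorem etRep_id_complete {A : Type u} [CommRing A] [IsNoetherianRing A] [IsLocalRing A]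
    [IsAdicComplete (IsLocalRing.maximalIdeal A) A] [HenselianLocalRing A]
    {X : Scheme.{u}} (g : X ⟶ Spec (CommRingCat.of A)) [UniversallyOpen g] [Surjective g]
    [LocallyOfFiniteType g] [QuasiCompact g]
    (D : SchDDFam (fam g)) [Etale (obj₀ D).hom] [IsSeparated (obj₀ D).hom] [QuasiCompact (obj₀ D).hom] :
    EtRep D (𝟙 (Spec (CommRingCat.of A))) := by
  haveI : CompactSpace X := QuasiCompact.compactSpace_of_compactSpace g
  obtain ⟨X', h, _, _, hs⟩ := AlgSp.exists_affine_etale_cover (𝟙 X)
  rw [Category.comp_id] at hs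
  haveI := hs
  obtain ⟨φ, hφ⟩ := Spec.map_surjective (X'.isoSpec.inv ≫ h ≫ g)
  letI : Algebra A Γ(X', ⊤) := φ.hom.toAlgebra
  have e : Spec.map (CommRingCat.ofHom (algebraMap A Γ(X', ⊤))) = X'.isoSpec.inv ≫ h ≫ g := hφ
  haveI : Algebra.FiniteType A Γ(X', ⊤) :=
    (HasRingHomProperty.Spec_iff (P := @LocallyOfFiniteType)).1 (show LocallyOfFiniteType (Spec.map φ) by
      rw [hφ]; infer_instance)
  obtain ⟨R, _, _, _, hsurjR, ⟨ψ⟩⟩ := QSect21.exists_finite_surjective_point (A := A) (C := Γ(X', ⊤))
    (by rw [e]; infer_instance) (by rw [e]; infer_instance)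
  haveI := hsurjR
  haveI : IsFinite (Spec.map (CommRingCat.ofHom (algebraMap A R))) :=
    (IsFinite.SpecMap_iff _).2 (RingHom.finite_algebraMap.2 inferInstance)
  haveI : IsLocallyNoetherian (Spec (CommRingCat.of A)) := inferInstance
  haveI : LocallyOfFinitePresentation (Spec.map (CommRingCat.ofHom (algebraMap A R))) := inferInstance
  refine etRep_id_of_finite_refine (g₃ := Spec.map (CommRingCat.ofHom (algebraMap A R)))
    (Spec.map (CommRingCat.ofHom ψ.toRingHom) ≫ X'.isoSpec.inv ≫ h) ?_ D
  simp only [Category.assoc]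
  rw [← e, ← Spec.map_comp]
  congr 1
  ext a
  exact ψ.commutes a

theorem effEtS_of_universallyOpen {S X : Scheme.{u}} {g : X ⟶ S} [UniversallyOpen g] [Surjective g]
    [IsLocallyNoetherian S] [LocallyOfFiniteType g] [QuasiCompact g]
    (D : SchDDFam (fam g)) [Etale (obj₀ D).hom] [IsSeparated (obj₀ D).hom] [QuasiCompact (obj₀ D).hom] :
    EffEtS D := by
  have hg := univSubmersive_of_universallyOpen g
  haveI : LocallyOfFinitePresentation g := inferInstance
  haveI : IsLocallyNoetherian X := LocallyOfFiniteType.isLocallyNoetherian g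
  haveI : QuasiSeparated g := inferInstance
  refine (effEtS_iff_etSRep_id hg).2 (etSRep_of_etRep hg ?_)
  obtain ⟨G, hG, hGrep⟩ := exists_open_goodSet (D := D) hg
  have hu : ∀ a : S, a ∈ G := fun a => by
    refine show a ∈ (G : Set S) from hG.symm ▸ (show EtRep D (S.fromSpecStalk a) from ?_)
    obtain ⟨A, _, _, _, _, _, φ, hF, hL⟩ := exists_complete_algClosed (S.presheaf.stalk a)
    obtain ⟨h₁, h₂, h₃⟩ := spec_map_flat_surjective φ hF
    haveI := h₁; haveI := h₂; haveI := h₃
    haveI : HenselianRing A (IsLocalRing.maximalIdeal A) := inferInstance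
    haveI : HenselianLocalRing A := HenselianLocalRing.mk fun f hf a₀ h₁ h₂ =>
      HenselianRing.is_henselian (I := IsLocalRing.maximalIdeal A) f hf a₀ h₁ (h₂.map _)
    let r := Spec.map (CommRingCat.ofHom φ)
    let q := r ≫ S.fromSpecStalk a
    have sq : IsPullback (pullback.fst g q) (pullback.snd g q) g q := IsPullback.of_hasPullback g q
    haveI : Etale (obj₀ (pullCart sq D)).hom :=
      inferInstanceAs (Etale (pullback.snd (obj₀ D).hom (pullback.fst g q)))
    haveI : IsSeparated (obj₀ (pullCart sq D)).hom :=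
      inferInstanceAs (IsSeparated (pullback.snd (obj₀ D).hom (pullback.fst g q)))
    haveI : QuasiCompact (obj₀ (pullCart sq D)).hom :=
      inferInstanceAs (QuasiCompact (pullback.snd (obj₀ D).hom (pullback.fst g q)))
    haveI : UniversallyOpen (pullback.snd g q) := MorphismProperty.pullback_snd _ _ ‹UniversallyOpen g›
    haveI : Surjective (pullback.snd g q) := MorphismProperty.pullback_snd (P := @Surjective) _ _ ‹_›
    have h := (etRep_trans_iff sq (Category.id_comp q)).1 (etRep_id_complete (pullback.snd g q) (pullCart sq D))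
    exact (etSRep_of_fpqc' r (etSRep_of_etRep hg h)).etRep
  refine etRep_of_openCover (fun _ : PUnit.{u + 1} => G)
    (TopologicalSpace.IsOpenCover.mk (eq_top_iff.2 fun z _ => TopologicalSpace.Opens.mem_iSup.2
      ⟨PUnit.unit, hu z⟩)) fun _ => ?_
  rw [Category.comp_id]
  exact hGrep

end GrothLib.EtDescent21
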